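import Cfsg.Agent.H58.SuzRep
import Cfsg.Agent.H80.Fpf.Mult
import Cfsg.Agent.S2048
import Cfsg.Agent.KFacts.SuzLFour

/-!
# S4622, row `Suz`: the double cover (helper31)

`cover_comm` : in a central extension of `Suz` by a `3'`-group, a central element of the derived group is trivial or the
commutator of lifts of the commuting involutions `e0`, `e1`.
-/

set_option autoImplicit false
set_option maxRecDepth 100000

namespace Cfsg.Agent.TID.Suz

open Cfsg Cfsg.Spor Subgroup
open Cfsg.Agent.H80.Fpf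
open Cfsg.Agent.H58.SuzRep (Y q s z u M12 q_surj q_ker q_z z_mem orderOf_z coe_z_pow coe_s σ_injective σ_q σ_on on comm_of
  ok6 mk6)
open Cfsg.Agent.SporadicRecognition.SuzOrder (card_Suz el)
open Cfsg.Agent.KFacts.SuzLFour (e0 e1 e1_eq)
open Cfsg.Agent.SuzThree.Elts (w0)
open scoped commutatorElement

universe u

theorem comm_lift {H K : Type*} [Group H] [Group K] {π : H →* K} (hc : π.ker ≤ center H) {a a' b b' : H}
    (ha : π a = π a') (hb : π b = π b') : ⁅a, b⁆ = ⁅a', b'⁆ := by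
  have h1 : a⁻¹ * a' ∈ π.ker := by rw [MonoidHom.mem_ker, map_mul, map_inv, ha, inv_mul_cancel]
  have h2 : b⁻¹ * b' ∈ π.ker := by rw [MonoidHom.mem_ker, map_mul, map_inv, hb, inv_mul_cancel]
  have e1 := mem_center_iff.1 (hc h1)
  have e2 := mem_center_iff.1 (hc h2)
  obtain ⟨v, hv⟩ : ∃ v, v = a⁻¹ * a' := ⟨_, rfl⟩
  obtain ⟨w, hw⟩ : ∃ w, w = b⁻¹ * b' := ⟨_, rfl⟩
  rw [← hv] at e1
  rw [← hw] at e2
  have h3 : a' = a * v := by rw [hv, mul_inv_cancel_left]
  have h4 : b' = b * w := by rw [hw, mul_inv_cancel_left]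
  rw [h3, h4, commutatorElement_def, commutatorElement_def]
  calc a * b * a⁻¹ * b⁻¹ = a * (b * w * v) * v⁻¹ * (w⁻¹ * a⁻¹) * b⁻¹ := by group
    _ = a * (v * (b * w)) * v⁻¹ * (a * w)⁻¹ * b⁻¹ := by rw [e1, mul_inv_rev]
    _ = a * (v * (b * w)) * v⁻¹ * (w * a)⁻¹ * b⁻¹ := by rw [e2 a]
    _ = _ := by group

theorem perf_Suz : _root_.commutator Suz = ⊤ := by
  have hs := SporadicRecognition.SuzOrder.simple
  rcases hs.eq_bot_or_eq_top_of_normal (_root_.commutator Suz) inferInstance with h | h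
  · exfalso
    apply KFacts.SuzLFour.e1_ne
    have h1 : ⁅KFacts.SuzLFour.x0, e0⁆ ∈ _root_.commutator Suz := commutator_mem_commutator (mem_top _) (mem_top _)
    rw [h, mem_bot, commutatorElement_def, mul_inv_eq_one] at h1
    exact h1
  · exact h

/-- the derived group of a central extension is a cover -/
theorem cover_of {H : Type u} [Group H] {π : H →* Suz} (hs : Function.Surjective π) (hc : π.ker ≤ center H) :
    IsCover (π.comp (_root_.commutator H).subtype) := by
  obtain ⟨h1, h2⟩ := perf_commutator hs hc perf_Suz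
  refine ⟨fun k => ?_, fun w hw => mem_center_iff.2 fun y => Subtype.ext (mem_center_iff.1 (hc hw) y), h1⟩
  have h3 : k ∈ (_root_.commutator H).map π := by rw [h2]; trivial
  obtain ⟨m, hm, rfl⟩ := h3
  exact ⟨⟨m, hm⟩, rfl⟩

theorem q_s (x : Suz.Gen) : q (s x) = on x := σ_injective (by rw [σ_q, σ_on]; rfl)

theorem q_word (w : List Suz.Gen) : q (w.map s).prod = el w := by
  rw [map_list_prod, List.map_map, el]
  congr 2
  funext x
  exact q_s x

theorem coe_comm {K : Type*} [Group K] {T : Subgroup K} (a b : T) : ((⁅a, b⁆ : T) : K) = ⁅(a : K), (b : K)⁆ := rfl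

theorem comm_words {v w : List Suz.Gen} (h : ((⁅(v.map u).prod, (w.map u).prod⁆ : M12ˣ) : M12) = (6 : ZMod 7) • (1 : M12)) :
    ⁅(v.map s).prod, (w.map s).prod⁆ = z ^ 3 := by
  apply Subtype.ext
  apply Units.ext
  rw [coe_z_pow, coe_comm, coe_s, coe_s, h, show (3 : ZMod 7) ^ 3 = 6 by decide]

theorem exists_six : ∃ (T : Type) (_ : Group T) (_ : Finite T) (υ : T →* Suz) (t a b : T), Function.Surjective υ ∧
    υ.ker ≤ center T ∧ t ∈ _root_.commutator T ∧ υ t = 1 ∧ orderOf t = 6 ∧ υ a = e0 ∧ υ b = e1 ∧ ⁅a, b⁆ = t ^ 3 :=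
  ⟨Y, inferInstance, inferInstance, q, z, _, _, q_surj, q_ker, z_mem, q_z, orderOf_z, q_word [Suz.Gen.e],
    (q_word (w0 ++ [Suz.Gen.e] ++ w0.reverse)).trans e1_eq.symm, comm_words (comm_of ok6 mk6 (by decide +kernel))⟩

theorem cover_comm0 {H : Type} [Group H] [Finite H] {π : H →* Suz} (hs : Function.Surjective π) (hc : π.ker ≤ center H)
    {w : H} (hw : π w = 1) (hw' : w ∈ _root_.commutator H) (h3 : ∀ v, π v = 1 → v ^ 3 = 1 → v = 1) {a b : H}
    (ha : π a = e0) (hb : π b = e1) : w = 1 ∨ w = ⁅a, b⁆ := by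
  have hfin : Finite Suz := Nat.finite_of_card_ne_zero (by rw [card_Suz]; norm_num)
  have hm := multDvd_of_cyclic (by norm_num) Cfsg.Agent.S2048.result
  obtain ⟨T, _, _, υ, t, a0, b0, hυs, hυc, ht, ht1, ht6, ha0, hb0, hab⟩ := exists_six
  have hυ := cover_of hυs hυc
  let z' : _root_.commutator T := ⟨t, ht⟩
  have hz' : z' ∈ (υ.comp (_root_.commutator T).subtype).ker := ht1
  have hord : orderOf z' = 6 := by rw [← orderOf_coe]; exact ht6
  have hle : zpowers z' ≤ (υ.comp (_root_.commutator T).subtype).ker := (zpowers_le).2 hz'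
  have hcard : Nat.card (υ.comp (_root_.commutator T).subtype).ker = 6 := by
    refine Nat.dvd_antisymm (hm _ _ hυ) ?_
    have h1 := card_dvd_of_le hle
    rwa [Nat.card_zpowers, hord] at h1
  have heq := eq_of_le_of_card_ge hle (by rw [Nat.card_zpowers, hord, hcard])
  obtain ⟨θ, hθ, hθπ⟩ := exists_of_universal (by norm_num) hm hυ hcard (cover_of hs hc)
  have hθπ' : ∀ x, π (θ x) = υ x := hθπ
  obtain ⟨x, hx⟩ := hθ ⟨w, hw'⟩
  have hxk : x ∈ zpowers z' := by
    rw [heq]
    change υ x = 1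
    rw [← hθπ', hx]
    exact hw
  obtain ⟨i, rfl⟩ := mem_zpowers_iff.1 hxk
  have h1 : ((θ z' : _root_.commutator H) : H) ^ 2 = 1 := by
    refine h3 _ (by rw [map_pow, hθπ', ht1, one_pow]) ?_
    rw [← pow_mul, ← coe_pow, ← map_pow, show 2 * 3 = 6 from rfl, ← hord, pow_orderOf_eq_one, map_one, coe_one]
  have h2 : w = ((θ z' : _root_.commutator H) : H) ^ i := by rw [← coe_zpow, ← map_zpow, hx]
  obtain ⟨a', ha'⟩ := hυ.surj e0
  obtain ⟨b', hb'⟩ := hυ.surj e1
  have h4 : ⁅a', b'⁆ = z' ^ 3 := by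
    refine Subtype.ext ?_
    change ⁅(a' : T), (b' : T)⁆ = t ^ 3
    rw [← hab]
    exact comm_lift hυc (ha'.trans ha0.symm) (hb'.trans hb0.symm)
  have h5 : ⁅a, b⁆ = ((θ z' : _root_.commutator H) : H) := by
    rw [comm_lift hc (a' := (θ a' : _root_.commutator H)) (b' := (θ b' : _root_.commutator H))
      (ha.trans (ha'.symm.trans (hθπ' a').symm)) (hb.trans (hb'.symm.trans (hθπ' b').symm)), ← coe_comm,
      ← map_commutatorElement, h4, map_pow, coe_pow, pow_succ, h1, one_mul]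
  rw [h5, h2]
  rcases Int.even_or_odd' i with ⟨k, rfl | rfl⟩
  · left
    rw [zpow_mul, zpow_ofNat, h1, one_zpow]
  · right
    rw [zpow_add, zpow_mul, zpow_ofNat, h1, one_zpow, one_mul, zpow_one]

/-- **The double cover.** -/
theorem cover_comm {H : Type u} [Group H] [Finite H] {π : H →* Suz} (hs : Function.Surjective π) (hc : π.ker ≤ center H)
    {w : H} (hw : π w = 1) (hw' : w ∈ _root_.commutator H) (h3 : ∀ v, π v = 1 → v ^ 3 = 1 → v = 1) {a b : H}
    (ha : π a = e0) (hb : π b = e1) : w = 1 ∨ w = ⁅a, b⁆ := by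
  let E : Shrink.{0} H ≃* H := Shrink.mulEquiv
  have hfin : Finite (Shrink.{0} H) := Finite.of_equiv H E.symm.toEquiv
  have key : ∀ x, π.comp E.toMonoidHom (E.symm x) = π x := fun x => congrArg π (E.apply_symm_apply x)
  have h1 : E.symm w ∈ _root_.commutator (Shrink.{0} H) := by
    have h2 : E.symm w ∈ (_root_.commutator H).map E.symm.toMonoidHom := ⟨w, hw', rfl⟩
    rw [commutator_def, map_commutator] at h2
    exact commutator_mono le_top le_top h2
  rcases cover_comm0 (π := π.comp E.toMonoidHom) (hs.comp E.surjective) (fun x hx => mem_center_iff.2 fun y =>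
      E.injective (by rw [map_mul, map_mul]; exact mem_center_iff.1 (hc hx) (E y))) ((key w).trans hw) h1
      (fun v hv hv3 => E.injective (by rw [map_one]; exact h3 _ hv (by rw [← map_pow, hv3, map_one])))
      ((key a).trans ha) ((key b).trans hb) with h | h
  · exact Or.inl (E.symm.injective (by rw [h, map_one]))
  · exact Or.inr (E.symm.injective (by rw [h, map_commutatorElement]))

end Cfsg.Agent.TID.Suz
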