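import Cfsg.Agent.TID.Basic
import Cfsg.Agent.TID.BlkIso
import Cfsg.Agent.H692.Cliff
import Cfsg.Agent.H418.CC.Heis
import Cfsg.Agent.H365.NseAlt
import Cfsg.Agent.H700.PrinCrit
import Cfsg.Agent.Characters.CCBasic
import Cfsg.Agent.Classification.QDW.CentralEnd
import Cfsg.Agent.Blocks.Induced
import Cfsg.Agent.Blocks.Local
import Cfsg.Agent.CharDeep.DegreeBound

/-!
# S4622, defect group of order nine: central elements in the derived group of the centralizer (helper31)

* `deg_nine` : an irreducible character of a central extension of `A₆` of degree divisible by nine has degree nine;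
* `ker_of_block` : a central `3'`-element of the derived group of `C(D)` lies in the kernel of the block.
-/

set_option autoImplicit false

namespace Cfsg.Agent.TID.Suz

open Cfsg Subgroup Cfsg.Agent.Characters.Core
open Cfsg.Agent.TID.Blk (Nm)
open scoped ComplexConjugate

universe u

theorem card_six : Nat.card (alternatingGroup (Fin 6)) = 360 := by
  rw [nat_card_alternatingGroup, Nat.card_fin]
  decide

theorem cent_five {g : alternatingGroup (Fin 6)} (h : orderOf g = 5) : 72 ≤ (C1 g).index := by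
  have : Fact (Nat.Prime 5) := ⟨Nat.prime_five⟩
  have h1 : IsPGroup 5 (C1 g) := by
    refine isPGroup_of_reg fun y hy h5 => ?_
    have h2 : Commute g y := mem_C1.1 hy
    have h3 := h2.orderOf_mul_eq_mul_orderOf_of_coprime (by rw [h]; exact (Nat.Prime.coprime_iff_not_dvd this.out).2 h5)
    have h4 := H365.NseAlt.or6 (g * y)
    have h6 := orderOf_pos y
    rw [h3, h] at h4
    simp only [List.mem_cons, List.not_mem_nil, or_false] at h4
    exact orderOf_eq_one_iff.1 (by omega)
  obtain ⟨k, hk⟩ := IsPGroup.iff_card.1 h1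
  have h2 := (C1 g).card_mul_index
  rw [card_six, hk] at h2
  rcases k with _ | _ | k
  · omega
  · omega
  · have h3 : 25 ∣ 360 := ⟨5 ^ k * (C1 g).index, by rw [← h2]; ring⟩
    omega

section ext

variable {C : Type u} [Group C] [Finite C] {Y : Type*} [Group Y]

omit [Finite C] in
theorem ncard_pre {f : C →* Y} (hf : Function.Surjective f) (T : Set Y) :
    (f ⁻¹' T).ncard = Nat.card f.ker * T.ncard := by
  have h2 := Nat.card_congr (QuotientGroup.preimageMkEquivSubgroupProdSet f.ker
    ((QuotientGroup.quotientKerEquivOfSurjective f hf) ⁻¹' T))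
  have h3 : (QuotientGroup.mk ⁻¹' ((QuotientGroup.quotientKerEquivOfSurjective f hf) ⁻¹' T) : Set C) = f ⁻¹' T := rfl
  have h4 : Nat.card ((QuotientGroup.quotientKerEquivOfSurjective f hf) ⁻¹' T : Set (C ⧸ f.ker)) = T.ncard := by
    rw [Nat.card_coe_set_eq, Set.ncard_preimage_of_injective_subset_range
      (QuotientGroup.quotientKerEquivOfSurjective f hf).injective
      (by rw [(QuotientGroup.quotientKerEquivOfSurjective f hf).surjective.range_eq]; exact Set.subset_univ _)]
  rw [h3, Nat.card_prod, h4, Nat.card_coe_set_eq] at h2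
  exact h2

theorem sum_normSq [Fintype C] {η : C → ℂ} {n : ℕ} (h : classInner η η = n) :
    ∑ g : C, Complex.normSq (η g) = Nat.card C * n := by
  rw [classInner_self_eq_ofReal] at h
  have h1 : (Nat.card C : ℝ)⁻¹ * ∑ g : C, Complex.normSq (η g) = n := by exact_mod_cast h
  have h2 : (Nat.card C : ℝ) ≠ 0 := by exact_mod_cast Nat.card_pos.ne'
  rw [← h1, mul_inv_cancel_left₀ h2]

/-- the norm of a character of an abelian group has the parity of the degree -/
theorem norm_parity [Fintype C] (hc : ∀ a b : C, a * b = b * a) {η : C → ℂ} (hη : IsCharacter C η) {d : ℕ}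
    (hd : η 1 = d) : ∃ n : ℕ, classInner η η = n ∧ n % 2 = d % 2 := by
  classical
  have := finite_irr (G := C)
  have := Fintype.ofFinite (IrrCharacter C)
  obtain ⟨m, hm⟩ := exists_nat_comb hη
  have h1 : η = ∑ ψ : IrrCharacter C, (m ψ : ℂ) • (ψ : C → ℂ) := by
    rw [hm]
    exact Finset.sum_congr rfl fun ψ _ => (Nat.cast_smul_eq_nsmul ℂ _ _).symm
  refine ⟨∑ ψ, m ψ * m ψ, ?_, ?_⟩
  · rw [h1, classInner_sum_smul_sum_smul]
    simp
  · have h2 : (d : ℂ) = ((∑ ψ, m ψ : ℕ) : ℂ) := by
      rw [← hd, h1, Finset.sum_apply, Nat.cast_sum]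
      refine Finset.sum_congr rfl fun ψ _ => ?_
      rw [Pi.smul_apply, Characters.CCBasic.irr_apply_one_of_comm hc ψ.2, smul_eq_mul, mul_one]
    rw [Nat.cast_injective h2, Finset.sum_nat_mod, Finset.sum_nat_mod _ 2 m]
    congr 1
    refine Finset.sum_congr rfl fun ψ _ => ?_
    rcases Nat.mod_two_eq_zero_or_one (m ψ) with h | h <;> rw [Nat.mul_mod, h]

variable {f : C →* alternatingGroup (Fin 6)}

omit [Finite C] in
theorem card_ext (hf : Function.Surjective f) : Nat.card C = Nat.card f.ker * 360 := by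
  have h := ncard_pre hf Set.univ
  rwa [Set.preimage_univ, Set.ncard_univ, Set.ncard_univ, card_six] at h

theorem normSq_eq (hk : f.ker ≤ center C) {η : C → ℂ} (hη : IsIrrCharacter C η) {a c : C} (h : IsConj (f a) (f c))
    (hf : Function.Surjective f) : Complex.normSq (η c) = Complex.normSq (η a) := by
  obtain ⟨x, hx⟩ := isConj_iff.1 h
  obtain ⟨x, rfl⟩ := hf x
  have h1 : (x * a * x⁻¹)⁻¹ * c ∈ f.ker := by
    rw [MonoidHom.mem_ker, map_mul, map_inv, map_mul, map_mul, map_inv, hx, inv_mul_cancel]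
  have h2 := H418.CC.norm_mul_central hη (hk h1) (x * a * x⁻¹)
  rw [mul_inv_cancel_left, isIrr_isClassFunction hη] at h2
  rw [Complex.normSq_eq_norm_sq, Complex.normSq_eq_norm_sq, h2]

theorem bound (hf : Function.Surjective f) (hk : f.ker ≤ center C) {η : C → ℂ} (hη : IsIrrCharacter C η) {d : ℕ}
    (hd : η 1 = d) {a : C} (ha : orderOf (f a) = 5) : (d : ℝ) ^ 2 + 72 * Complex.normSq (η a) ≤ 360 := by
  classical
  have := Fintype.ofFinite C
  have h1 := sum_normSq (n := 1) (by rw [classInner_irr_self hη, Nat.cast_one])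
  have ha1 : ¬ IsConj (f 1) (f a) := by
    rw [map_one, isConj_one_right]
    intro h
    rw [h, orderOf_one] at ha
    omega
  have key : ∀ b : C, ∑ c ∈ (f ⁻¹' {y | IsConj (f b) y}).toFinset, Complex.normSq (η c) =
      (Nat.card f.ker * (C1 (f b)).index : ℕ) * Complex.normSq (η b) := by
    intro b
    have h0 : ∀ c ∈ (f ⁻¹' {y | IsConj (f b) y}).toFinset, Complex.normSq (η c) = Complex.normSq (η b) := by
      intro c hc
      rw [Set.mem_toFinset] at hc
      exact normSq_eq hk hη hc hf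
    rw [Finset.sum_congr rfl h0, Finset.sum_const, nsmul_eq_mul,
      ← Set.ncard_eq_toFinset_card', ncard_pre hf, Blocks.Induced.ncard_conj_eq_index]
  have hdis : Disjoint (f ⁻¹' {y | IsConj (f 1) y}).toFinset (f ⁻¹' {y | IsConj (f a) y}).toFinset := by
    rw [Finset.disjoint_left]
    intro c h2 h3
    rw [Set.mem_toFinset] at h2 h3
    exact ha1 (IsConj.trans h2 (IsConj.symm h3))
  have h2 := Finset.sum_le_sum_of_subset_of_nonneg (f := fun c => Complex.normSq (η c))
    (Finset.subset_univ ((f ⁻¹' {y | IsConj (f 1) y}).toFinset ∪ (f ⁻¹' {y | IsConj (f a) y}).toFinset))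
    fun _ _ _ => Complex.normSq_nonneg _
  have h3 : C1 (f 1) = ⊤ := eq_top_iff.2 fun y _ => mem_C1.2 (by rw [map_one, one_mul, mul_one])
  rw [Finset.sum_union hdis, key, key, h1, card_ext hf, h3, index_top, hd, Complex.normSq_natCast] at h2
  have h4 : (72 : ℝ) ≤ (C1 (f a)).index := by exact_mod_cast cent_five ha
  have h5 : (0 : ℝ) < Nat.card f.ker := by exact_mod_cast Nat.card_pos
  have h6 := Complex.normSq_nonneg (η a)
  push_cast at h2
  have h7 : (d : ℝ) * d + (C1 (f a)).index * Complex.normSq (η a) ≤ 360 := by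
    refine le_of_mul_le_mul_left ?_ h5
    linarith
  nlinarith

/-- **Degree nine.** -/
theorem deg_nine (hf : Function.Surjective f) (hk : f.ker ≤ center C) {η : C → ℂ} (hη : IsIrrCharacter C η) {d : ℕ}
    (hd : η 1 = d) (h9 : 9 ∣ d) : d = 9 := by
  classical
  have : Fact (Nat.Prime 5) := ⟨Nat.prime_five⟩
  obtain ⟨y, hy⟩ := exists_prime_orderOf_dvd_card' (G := alternatingGroup (Fin 6)) 5 (by rw [card_six]; norm_num)
  obtain ⟨a, rfl⟩ := hf y
  have hd0 : d ≠ 0 := by
    rintro rfl
    exact isIrr_apply_one_ne_zero hη (by rw [hd, Nat.cast_zero])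
  have h1 : d ^ 2 ≤ 360 := by
    have h2 := bound hf hk hη hd hy
    have h3 := Complex.normSq_nonneg (η a)
    have h4 : (d : ℝ) ^ 2 ≤ 360 := by linarith
    exact_mod_cast h4
  obtain ⟨k, rfl⟩ := h9
  have hk2 : k ≤ 2 := by nlinarith
  by_contra hne
  obtain rfl : k = 2 := by omega
  let A : Subgroup C := (zpowers (f a)).comap f
  have := Fintype.ofFinite A
  have hdec : ∀ x : A, ∃ (i : ℤ) (w : C), w ∈ f.ker ∧ (x : C) = a ^ i * w := by
    intro x
    obtain ⟨i, hi⟩ := mem_zpowers_iff.1 (mem_comap.1 x.2)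
    exact ⟨i, (a ^ i)⁻¹ * x, by rw [MonoidHom.mem_ker, map_mul, map_inv, map_zpow, hi, inv_mul_cancel],
      (mul_inv_cancel_left _ _).symm⟩
  have hc : ∀ x y : A, x * y = y * x := by
    intro x y
    obtain ⟨i, v, hv, hx⟩ := hdec x
    obtain ⟨j, w, hw, hy⟩ := hdec y
    refine Subtype.ext ?_
    rw [coe_mul, coe_mul, hx, hy]
    have e1 := mem_center_iff.1 (hk hv)
    have e2 := mem_center_iff.1 (hk hw)
    calc a ^ i * v * (a ^ j * w) = a ^ i * (v * (a ^ j * w)) := by group
      _ = a ^ i * (a ^ j * w * v) := by rw [e1]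
      _ = a ^ j * (a ^ i * w) * v := by group
      _ = a ^ j * w * (a ^ i * v) := by rw [e2]; group
  obtain ⟨n, hn, hn2⟩ := norm_parity hc (isCharacter_comp A.subtype (isIrr_isCharacter hη)) (d := 9 * 2) hd
  have h2 := sum_normSq hn
  have h3 : Nat.card A = Nat.card f.ker * 5 := by
    have h4 := ncard_pre hf (zpowers (f a) : Set (alternatingGroup (Fin 6)))
    rw [← Nat.card_coe_set_eq (zpowers (f a) : Set (alternatingGroup (Fin 6))), SetLike.coe_sort_coe, Nat.card_zpowers,
      hy, ← Nat.card_coe_set_eq] at h4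
    exact h4
  have h4 : (Finset.univ.filter fun x : A => f x = 1).card = Nat.card f.ker := by
    rw [← Fintype.card_subtype, ← Nat.card_eq_fintype_card]
    exact Nat.card_congr ⟨fun x => ⟨x.1, x.2⟩, fun w => ⟨⟨w, mem_comap.2 (by rw [MonoidHom.mem_ker.1 w.2]; exact one_mem _)⟩,
      w.2⟩, fun _ => rfl, fun _ => rfl⟩
  have h5 : (Finset.univ.filter fun x : A => ¬ f x = 1).card = 4 * Nat.card f.ker := by
    have h6 := Finset.card_filter_add_card_filter_not (s := Finset.univ) fun x : A => f x = 1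
    rw [h4, Finset.card_univ, ← Nat.card_eq_fintype_card, h3] at h6
    omega
  rw [← Finset.sum_filter_add_sum_filter_not Finset.univ fun x : A => f x = 1] at h2
  have h6 : ∑ x ∈ Finset.univ.filter fun x : A => f x = 1, Complex.normSq ((η ∘ A.subtype) x) =
      Nat.card f.ker * 324 := by
    rw [Finset.sum_congr rfl (g := fun _ => 324), Finset.sum_const, h4, nsmul_eq_mul]
    intro x hx
    have h7 := normSq_eq hk hη (a := 1) (c := x) (by rw [map_one, (Finset.mem_filter.1 hx).2]) hf
    rw [hd, Complex.normSq_natCast] at h7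
    exact h7.trans (by norm_num)
  have h7 : ∑ x ∈ Finset.univ.filter fun x : A => ¬ f x = 1, Complex.normSq ((η ∘ A.subtype) x) ≤
      4 * Nat.card f.ker * (1 / 2) := by
    refine (Finset.sum_le_card_nsmul _ _ (1 / 2) fun x hx => ?_).trans (by rw [h5, nsmul_eq_mul]; push_cast; rfl)
    have h8 : orderOf (f x) = 5 := by
      refine orderOf_eq_prime ?_ (Finset.mem_filter.1 hx).2
      obtain ⟨i, hi⟩ := mem_zpowers_iff.1 (mem_comap.1 x.2)
      rw [← hi, ← zpow_natCast, ← zpow_mul, mul_comm, zpow_mul, zpow_natCast, ← hy, pow_orderOf_eq_one, one_zpow]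
    have h9 := bound hf hk hη hd h8
    change Complex.normSq (η x) ≤ 1 / 2
    push_cast at h9
    linarith
  have h8 : 0 ≤ ∑ x ∈ Finset.univ.filter fun x : A => ¬ f x = 1, Complex.normSq ((η ∘ A.subtype) x) :=
    Finset.sum_nonneg fun _ _ => Complex.normSq_nonneg _
  have h9 : (0 : ℝ) < Nat.card f.ker := by exact_mod_cast Nat.card_pos
  rw [h6, h3] at h2
  push_cast at h2
  have h10 : (324 : ℝ) ≤ 5 * n := le_of_mul_le_mul_left (by linarith) h9
  have h11 : (5 * n : ℝ) ≤ 326 := le_of_mul_le_mul_left (by linarith) h9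
  have h12 : 324 ≤ 5 * n := by exact_mod_cast h10
  have h13 : 5 * n ≤ 326 := by exact_mod_cast h11
  omega

end ext

/-- **The kernel of the block.** -/
theorem ker_of_block {G : Type u} [Group G] [Finite G] {M : Ideal AlgInt} {B : Set (IrrCharacter G)} {D : Subgroup G}
    (hM : IsPModular 3 M) (hB : IsPBlock M B) (hD : IsDefectGroup 3 M B D) (h9 : Nat.card D = 9)
    (C : Subgroup (Nm D)) [C.Normal] {f : C →* alternatingGroup (Fin 6)} (hf : Function.Surjective f)
    (hk : f.ker ≤ center C) (h81 : 81 ∣ Nat.card C) {z : C} (hz : ((z : Nm D) : G) ∈ center G)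
    (hz' : z ∈ _root_.commutator C) (h3 : ¬ 3 ∣ orderOf ((z : Nm D) : G)) {χ : IrrCharacter G} (hχ : χ ∈ B) :
    (χ : G → ℂ) z = (χ : G → ℂ) 1 := by
  classical
  have : Fact (Nat.Prime 3) := ⟨Nat.prime_three⟩
  have := Fintype.ofFinite G
  have := Fintype.ofFinite (Nm D)
  have := Fintype.ofFinite C
  have := finite_irr (G := C)
  have := Fintype.ofFinite (IrrCharacter C)
  obtain ⟨b, hb⟩ := Blk.exists_br hM hB hD
  obtain ⟨ψ, hψ⟩ : ∃ ψ, ψ ∈ b := by
    obtain ⟨ψ, h1⟩ := hb.1
    refine ⟨ψ, h1 ▸ fun g => ?_⟩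
    rw [sub_self]
    exact_mod_cast (Blocks.Local.memLocalIdeal_natCast_iff hM 0).2 (dvd_zero 3)
  have hzN : (z : Nm D) ∈ center (Nm D) := mem_center_iff.2 fun g => Subtype.ext (mem_center_iff.1 hz g)
  have hzC : z ∈ center C := mem_center_iff.2 fun g => Subtype.ext (mem_center_iff.1 hzN g)
  -- the defect
  have hdef : blockDefect 3 b = 2 := by
    have h1 := Cfsg.Agent.S0908.result 3 M hM b hb.1 _ (Blk.defect_br hM hD hb)
    rw [Blk.card_sub, h9] at h1
    exact (Nat.pow_right_injective (by norm_num : 2 ≤ 3) (h1.symm.trans (by norm_num : 9 = 3 ^ 2)))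
  -- every constituent has `z` in the kernel
  have hres : IsCharacter C fun n : C => (ψ : Nm D → ℂ) n := isCharacter_comp C.subtype (isIrr_isCharacter ψ.2)
  obtain ⟨m, hm⟩ := exists_nat_comb hres
  have hψz : (ψ : Nm D → ℂ) z = (ψ : Nm D → ℂ) 1 := by
    have h1 := congrFun hm z
    have h2 := congrFun hm 1
    rw [OneMemClass.coe_one] at h2
    rw [h1, h2, Finset.sum_apply, Finset.sum_apply]
    refine Finset.sum_congr rfl fun η _ => ?_
    rcases eq_or_ne (m η) 0 with h0 | h0
    · rw [h0, zero_smul]; rfl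
    rw [Pi.smul_apply, Pi.smul_apply]
    congr 1
    obtain ⟨h4, h5⟩ := H692.Cliff.degree_formula_nat C η.2 ψ.2 h0 (by rw [hm, classInner_sum_nsmul_irr])
    have hd := H418.CC.charDegree_eq (isIrr_isCharacter η.2)
    have hd0 : charDegree (η : C → ℂ) ≠ 0 := fun h => isIrr_apply_one_ne_zero η.2 (by rw [hd, h, Nat.cast_zero])
    have ht0 : (H692.Cliff.stab C (η : C → ℂ)).index * m η ≠ 0 := mul_ne_zero index_ne_zero_of_finite h0
    have h6 := Blk.fact_degree (p := 3) hψ
    have h7 := (Nat.factorization_le_iff_dvd ht0 index_ne_zero_of_finite).2 h5 3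
    have h8 := (Nat.prime_three.pow_dvd_iff_le_factorization (k := 4) Nat.card_pos.ne').1 h81
    rw [hdef, h4, Nat.factorization_mul ht0 hd0, ← C.card_mul_index,
      Nat.factorization_mul Nat.card_pos.ne' index_ne_zero_of_finite, Finsupp.add_apply, Finsupp.add_apply] at h6
    have h10 : 3 ^ 2 ∣ charDegree (η : C → ℂ) := (Nat.prime_three.pow_dvd_iff_le_factorization hd0).2 (by omega)
    have h11 := deg_nine hf hk η.2 hd h10
    obtain ⟨w, hw, hw'⟩ := Classification.QDW.CentralEnd.exists_root η.2 hzC hz' hd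
    rw [h11] at hw
    have h12 : ∀ k : ℕ, (η : C → ℂ) (z ^ k) = w ^ k * (η : C → ℂ) 1 := by
      intro k
      induction k with
      | zero => rw [pow_zero, pow_zero, one_mul]
      | succ k ih => rw [pow_succ, hw', ih]; ring
    have h13 : w ^ orderOf z = 1 := by
      have h14 := h12 (orderOf z)
      rw [pow_orderOf_eq_one] at h14
      exact (mul_eq_right₀ (isIrr_apply_one_ne_zero η.2)).1 h14.symm
    have h14 : (orderOf z).Coprime 9 := by
      rw [orderOf_coe, orderOf_coe] at h3
      exact ((Nat.Prime.coprime_iff_not_dvd Nat.prime_three).2 h3).symm.pow_right 2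
    have h15 : w = 1 := by
      have h16 := pow_gcd_eq_one.2 ⟨h13, hw⟩
      rwa [h14.gcd_eq_one, pow_one] at h16
    have h16 := h12 1
    rwa [pow_one, h15, one_pow, one_mul] at h16
  -- back to `G`
  have h1 := hb.2.2 ψ hψ χ hχ z
  have h2 : {h : Nm D | IsConj ((z : Nm D) : G) (h : G)} = {(z : Nm D)} := by
    ext h
    rw [Set.mem_ofPred_eq, Set.mem_singleton_iff]
    constructor
    · intro h4
      obtain ⟨c, hc⟩ := isConj_iff.1 h4
      rw [mem_center_iff.1 hz c, mul_inv_cancel_right] at hc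
      exact Subtype.ext hc.symm
    · rintro rfl
      exact IsConj.refl _
  have h4 : centralizer ({((z : Nm D) : G)} : Set G) = ⊤ :=
    eq_top_iff.2 fun y _ => mem_C1.2 (mem_center_iff.1 hz y).symm
  rw [inducedCentralChar, h2, finsum_mem_singleton, hψz, div_self (isIrr_apply_one_ne_zero ψ.2), centralChar, h4,
    index_top, Nat.cast_one, one_mul] at h1
  obtain ⟨w, -, hw⟩ := CharDeep.DegreeBound.exists_omega χ.2 hz
  have h5 : ∀ k : ℕ, (χ : G → ℂ) (((z : Nm D) : G) ^ k) = w ^ k * (χ : G → ℂ) 1 := by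
    intro k
    induction k with
    | zero => rw [pow_zero, pow_zero, one_mul]
    | succ k ih => rw [pow_succ, hw, ih]; ring
  have h6 : w ^ orderOf ((z : Nm D) : G) = 1 := by
    have h7 := h5 (orderOf ((z : Nm D) : G))
    rw [pow_orderOf_eq_one] at h7
    exact (mul_eq_right₀ (isIrr_apply_one_ne_zero χ.2)).1 h7.symm
  have h7 := h5 1
  rw [pow_one, pow_one] at h7
  rw [h7, mul_div_assoc, div_self (isIrr_apply_one_ne_zero χ.2), mul_one] at h1
  have h8 : MemLocalIdeal M (w - 1) := by
    obtain ⟨x, y, hx, hy, hxy⟩ := h1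
    refine ⟨-x, y, M.neg_mem hx, hy, ?_⟩
    push_cast
    rw [neg_div, hxy]
    ring
  rw [h7, H700.PrinCrit.eq_one_of_sub_mem hM h3 h6 h8, one_mul]

end Cfsg.Agent.TID.Suz
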