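import Cfsg.Agent.TID.Suz.Chr
import Cfsg.Agent.TID.Suz.Loc
import Cfsg.Agent.TID.Suz.Cover
import Cfsg.Agent.TID.Box.Quot

/-!
# S4622, row `Suz` (helper31)

`nsuz_of` : the row `NSuz` from the shared theorem `N9.Nine`.
-/

set_option autoImplicit false

namespace Cfsg.Agent.TID.Suz

open Cfsg Cfsg.Spor Subgroup
open Cfsg.Agent.TID.Blk (Nm)
open Cfsg.Agent.PreUniq.Spor.SuzP (E X card_E card_X comm_X e0X x0X)
open Cfsg.Agent.KFacts.SuzLFour (e0 e1)
open scoped commutatorElement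

universe u

/-- the derived group of an extension of degree at most two -/
theorem comm_mem {G : Type u} [Group G] {H : Subgroup G} [hn : H.Normal] (hi : H.index ∣ 2)
    (hp : ∀ h ∈ H, ∃ k ∈ ⁅H, H⁆, k⁻¹ * h ∈ center G) : _root_.commutator G ≤ ⁅H, H⁆ := by
  have hK : (⁅H, H⁆ : Subgroup G).Normal := inferInstance
  have key : ∀ h ∈ H, ∀ g, ⁅h, g⁆ ∈ ⁅H, H⁆ := by
    intro h hh g
    obtain ⟨k, hk, hw⟩ := hp h hh
    have h1 := mem_center_iff.1 hw g
    have h2 : ⁅h, g⁆ = k * (g * k⁻¹ * g⁻¹) := by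
      calc ⁅h, g⁆ = k * (k⁻¹ * h * g) * (k⁻¹ * h)⁻¹ * k⁻¹ * g⁻¹ := by rw [commutatorElement_def]; group
        _ = _ := by rw [← h1]; group
    rw [h2]
    exact mul_mem hk (hK.conj_mem _ (inv_mem hk) g)
  rw [commutator_def, commutator_le]
  intro a _ b _
  by_cases ha : a ∈ H
  · exact key a ha b
  by_cases hb : b ∈ H
  · rw [← commutatorElement_inv]
    exact inv_mem (key b hb a)
  have h2 : H.index = 2 := by
    rcases (Nat.dvd_prime Nat.prime_two).1 hi with h | h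
    · rw [index_eq_one] at h
      exact absurd (h ▸ mem_top a) ha
    · exact h
  have h3 : a⁻¹ * b ∈ H := (mul_mem_iff_of_index_two h2).2 (by rw [inv_mem_iff]; exact iff_of_false ha hb)
  have h4 : ⁅a, b⁆ = a * ⁅a⁻¹ * b, a⁆⁻¹ * a⁻¹ := by
    rw [commutatorElement_def, commutatorElement_def]
    group
  rw [h4]
  exact hK.conj_mem _ (inv_mem (key _ h3 a)) a

/-- **The central elements of the derived group lie in the kernel of the block.** -/
theorem ker_cond {G : Type u} [Group G] [Finite G] {S : Subgroup (G ⧸ pPrimeCore 3 G)} {M : Ideal AlgInt}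
    {B : Set (IrrCharacter G)} {D : Subgroup G} (hC : Cen 3 S) (hyp : Hyp 3 M B D) (hi : S.index ∣ 2)
    (hDS : img 3 D ≤ S) {e : S ≃* Suz} (he : imS e (img 3 D) = E) {χ : IrrCharacter G} (hχ : χ ∈ B) {z : G}
    (hz : z ∈ pPrimeCore 3 G) (hz' : z ∈ _root_.commutator G) : (χ : G → ℂ) z = (χ : G → ℂ) 1 := by
  have : Fact (Nat.Prime 3) := ⟨Nat.prime_three⟩
  have hq := Box.cq_core hC.cen
  have hD : IsPGroup 3 D := Blocks.Basic.isPGroup_of_isDefectGroup hyp.dfc
  have hSn := hC.soc.normal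
  let mk := QuotientGroup.mk' (pPrimeCore 3 G)
  let H : Subgroup G := S.comap mk
  have hHn : H.Normal := inferInstance
  let π : H →* Suz := e.toMonoidHom.comp (mk.subgroupComap S)
  have hπ : ∀ h : H, ((e.symm (π h) : S) : G ⧸ pPrimeCore 3 G) = mk h := fun h =>
    congrArg Subtype.val (e.symm_apply_apply (mk.subgroupComap S h))
  have hs : Function.Surjective π := e.surjective.comp (mk.subgroupComap_surjective_of_surjective S hq.surj)
  have hinj : ∀ a b : H, π a = π b → mk a = mk b := fun a b h => by rw [← hπ, ← hπ, h]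
  have hker : ∀ a : H, π a = 1 → (a : G) ∈ pPrimeCore 3 G := fun a h =>
    (QuotientGroup.eq_one_iff _).1 ((hinj a 1 (h.trans (map_one π).symm)).trans (map_one mk))
  have hc : π.ker ≤ center H := fun a ha => mem_center_iff.2 fun b => Subtype.ext (mem_center_iff.1 (hC.cen (hker a ha)) b)
  have hreg : ∀ v ∈ pPrimeCore 3 G, ¬ 3 ∣ orderOf v := fun v hv h =>
    not_dvd_core (p := 3) G (h.trans (orderOf_dvd_natCard _ hv))
  have hDH : D ≤ H := fun d hd => hDS ⟨d, hd, rfl⟩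
  have hE : ∀ d : H, (d : G) ∈ D → π d ∈ E := fun d hd => by
    rw [← he, mem_imS, hπ]
    exact ⟨d, hd, rfl⟩
  have hE' : ∀ x ∈ E, ∃ d : H, (d : G) ∈ D ∧ π d = x := by
    intro x hx
    rw [← he, mem_imS] at hx
    obtain ⟨d, hd, hdx⟩ := hx
    refine ⟨⟨d, hDH hd⟩, hd, e.symm.injective (Subtype.ext ?_)⟩
    rw [hπ]
    exact hdx
  have hX : ∀ h : H, π h ∈ X ↔ (h : G) ∈ Cz D := by
    intro h
    constructor
    · intro hh
      refine mem_Cz.2 fun d hd => ?_
      obtain ⟨k, hk⟩ := pow_eq_one_of_mem hD hd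
      have h1 := comm_X hh (hE ⟨d, hDH hd⟩ hd)
      have h2 : π ⟨d, hDH hd⟩ = π (h * ⟨d, hDH hd⟩ * h⁻¹) := by
        rw [map_mul, map_mul, map_inv, ← h1, mul_inv_cancel_right]
      have h3 := hq.eq_of (y := h * d * (h : G)⁻¹) hk (by rw [conj_pow, hk, mul_one, mul_inv_cancel]) (hinj _ _ h2)
      exact eq_mul_inv_iff_mul_eq.1 h3
    · intro hh
      refine mem_centralizer_iff.2 fun x hx => ?_
      obtain ⟨d, hd, rfl⟩ := hE' x hx
      rw [← map_mul, ← map_mul]
      exact congrArg π (Subtype.ext (mem_Cz.1 hh d hd))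
  have h9 : Nat.card D = 9 := by
    have h1 : Nat.card (imS e (img 3 D)) = Nat.card ((img 3 D).subgroupOf S) := card_map_of_injective e.injective
    rw [he, card_E, Nat.card_congr (subgroupOfEquivOfLe hDS).toEquiv] at h1
    exact (hq.card hD).symm.trans h1.symm
  -- `z` in the derived group of `H`
  have hzH : z ∈ H := by
    change mk z ∈ S
    rw [show mk z = 1 from (QuotientGroup.eq_one_iff _).2 hz]
    exact one_mem S
  have hmap : (_root_.commutator H).map H.subtype = ⁅H, H⁆ := by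
    rw [_root_.commutator_def, map_commutator, ← MonoidHom.range_eq_map, range_subtype]
  have hzc : (⟨z, hzH⟩ : H) ∈ _root_.commutator H := by
    have h1 : z ∈ ⁅H, H⁆ := by
      refine comm_mem ?_ (fun h hh => ?_) hz'
      · rw [index_comap_of_surjective _ hq.surj]
        exact hi
      · obtain ⟨k, hk⟩ := (cover_of hs hc).surj (π ⟨h, hh⟩)
        refine ⟨(k : H), hmap ▸ ⟨k, k.2, rfl⟩, hC.cen (hker ((k : H)⁻¹ * ⟨h, hh⟩) ?_)⟩
        rw [map_mul, map_inv, ← hk]
        exact inv_mul_cancel _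
    rw [← hmap] at h1
    obtain ⟨k, hk, hkz⟩ := h1
    rwa [show (⟨z, hzH⟩ : H) = k from Subtype.ext hkz.symm]
  have hz1 : π ⟨z, hzH⟩ = 1 := by
    apply e.symm.injective
    apply Subtype.ext
    rw [hπ, map_one]
    exact (QuotientGroup.eq_one_iff _).2 hz
  obtain ⟨a, ha⟩ := hs e0
  obtain ⟨b, hb⟩ := hs e1
  rcases cover_comm hs hc hz1 hzc (fun v hv hv3 => Subtype.ext (eq_one_of_pow (k := 1)
      (by rw [pow_one]; exact congrArg Subtype.val hv3) (hreg _ (hker v hv)))) ha hb with h | h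
  · rw [show z = 1 from congrArg Subtype.val h]
  -- the centralizer
  let C : Subgroup (Nm D) := (Cz D ⊓ H).subgroupOf (Nm D)
  have hCn : C.Normal := normal_subgroupOf_of_le_normalizer (le_Nz_inf (Nz_le_Nz_Cz D) (le_Nz_normal _ H))
  let ι : C →* H := ((Nm D).subtype.comp C.subtype).codRestrict H fun c => (mem_subgroupOf.1 c.2).2
  let g : C →* X := (π.comp ι).codRestrict X fun c => (hX (ι c)).2 (mem_subgroupOf.1 c.2).1
  have hlift : ∀ h : H, π h ∈ X → ∃ c : C, ι c = h := fun h hh =>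
    ⟨⟨⟨h, centralizer_le_normalizer _ ((hX h).1 hh)⟩, mem_subgroupOf.2 ⟨(hX h).1 hh, h.2⟩⟩, rfl⟩
  have hg : Function.Surjective g := by
    rintro ⟨x, hx⟩
    obtain ⟨h, rfl⟩ := hs x
    obtain ⟨c, rfl⟩ := hlift h hx
    exact ⟨c, rfl⟩
  obtain ⟨f, hf, hfk⟩ := exists_f
  obtain ⟨a', rfl⟩ := hlift a (ha ▸ e0X)
  obtain ⟨b', rfl⟩ := hlift b (hb ▸ mul_mem (mul_mem x0X e0X) (inv_mem x0X))
  have hzz : (((⁅a', b'⁆ : C) : Nm D) : G) = z := (congrArg Subtype.val h).symm
  rw [← hzz]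
  refine ker_of_block hyp.modu hyp.blk hyp.dfc h9 C (f := f.comp g) (hf.comp hg) (fun c hc => ?_) ?_
    (hzz ▸ hC.cen hz) (commutator_mem_commutator (mem_top _) (mem_top _)) (hzz ▸ hreg z hz) hχ
  · obtain ⟨d, hd, hdc⟩ := hE' _ ((hfk (g c)).1 hc)
    have h1 : ((d⁻¹ * ι c : H) : G) ∈ center G := by
      refine hC.cen (hker _ ?_)
      rw [map_mul, map_inv, hdc]
      exact inv_mul_cancel _
    refine mem_center_iff.2 fun y => Subtype.ext (Subtype.ext ?_)
    have h2 := mem_center_iff.1 h1 ((y : Nm D) : G)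
    have h3 := mem_Cz.1 (mem_subgroupOf.1 y.2).1 d hd
    change ((y : Nm D) : G) * ((d : G)⁻¹ * ((c : Nm D) : G)) = (d : G)⁻¹ * ((c : Nm D) : G) * ((y : Nm D) : G) at h2
    change ((y : Nm D) : G) * ((c : Nm D) : G) = ((c : Nm D) : G) * ((y : Nm D) : G)
    calc ((y : Nm D) : G) * ((c : Nm D) : G) = d * ((d : G)⁻¹ * (((y : Nm D) : G) * d) * ((d : G)⁻¹ * ((c : Nm D) : G))) := by
          group
      _ = d * (((y : Nm D) : G) * ((d : G)⁻¹ * ((c : Nm D) : G))) := by rw [← h3]; group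
      _ = _ := by rw [h2]; group
  · refine Dvd.dvd.trans ?_ (card_dvd_of_surjective g hg)
    rw [card_X]
    norm_num

/-- **The row `Suz`.** -/
theorem nsuz_of (h : N9.Nine.{u, 0}) : NSuz.{u} := by
  intro G _ _ S M B D hC hyp hAS _ hc _ hS
  obtain ⟨hi, hDS, hfr, e, he⟩ := pos hAS hc hS
  have he' : N9.imY e D = E := he
  exact h G S M B D Suz e K0 hC hyp hi hDS hfr (he' ▸ loc9) (he' ▸ chr9 hyp.modu)
    fun χ hχ z hz hz' => ker_cond hC hyp hi hDS he hχ hz hz'

end Cfsg.Agent.TID.Suz
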