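import Cfsg.Agent.TID.Suz.Fam
import Cfsg.Agent.TID.Basic
import Cfsg.Agent.TID.N9.Defs
import Cfsg.Agent.CpAutSuz.ThreeC
import Cfsg.Agent.CpAutSuz.Classes
import Cfsg.Agent.KFacts.SuzLarge
import Cfsg.Agent.S0089

/-!
# S4622, row `Suz`: the defect group and its local structure (helper31)

* `exists_cj` : a TI 3-subgroup of rank at least two whose centralizer is not a 3-group is conjugate to `E`;
* `loc9` : the local structure of `E`.
-/

set_option autoImplicit false
set_option maxRecDepth 100000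
set_option exponentiation.threshold 4000

namespace Cfsg.Agent.TID.Suz

open Cfsg Cfsg.Spor Subgroup Cfsg.Agent.H714.S8.SuzFam
open Cfsg.Agent.SporadicRecognition.SuzOrder (card_Suz el)
open Cfsg.Agent.Lib.PermNet Cfsg.Agent.Lib.PermNetOrbit Cfsg.Agent.SporadicRecognition.SuzPhi
  Cfsg.Agent.SuzThree.Nets Cfsg.Agent.SuzThree.Basic Cfsg.Agent.SuzThree.Elts
open Cfsg.Agent.PreUniq.Spor.SuzP (E F A X x1w x2w card_E card_X card_EX simple_X E_le_X A_le y_mem y_five y_ne comm_X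
  E_le_L isPGroup_E x12 cube_x1 cube_x2 x1E x2E e0X sup_le_X sup_comm' card_sup weq cw el_cw ord_e0 E_ab)
open Cfsg.Agent.SuzThree.CentA (z0)
open Cfsg.Agent.SuzThree.QZero (Q0)
open Cfsg.Agent.KFacts.SuzLFour (e0 e0_comm ne_one_of)
open Cfsg.Agent.KFacts.SuzTwoB (CE mem_CE card_CE)
open Cfsg.Agent.CpAutSuz.ThreeC (centralizer_eq card_centralizer card_quot cube_E)

theorem prime_cases {p : ℕ} (hp : p.Prime) (h : p ∣ 448345497600) :
    p = 2 ∨ p = 3 ∨ p = 5 ∨ p = 7 ∨ p = 11 ∨ p = 13 := by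
  have e : 448345497600 = 2 ^ 13 * 3 ^ 7 * 5 ^ 2 * 7 * 11 * 13 := by norm_num
  rw [e] at h
  have key : ∀ q k : ℕ, q.Prime → p ∣ q ^ k → p = q := fun q k hq hd =>
    (Nat.prime_dvd_prime_iff_eq hp hq).1 (hp.dvd_of_dvd_pow hd)
  have key' : ∀ q : ℕ, q.Prime → p ∣ q → p = q := fun q hq hd => (Nat.prime_dvd_prime_iff_eq hp hq).1 hd
  rcases (Nat.Prime.dvd_mul hp).1 h with h | h
  · rcases (Nat.Prime.dvd_mul hp).1 h with h | h
    · rcases (Nat.Prime.dvd_mul hp).1 h with h | h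
      · rcases (Nat.Prime.dvd_mul hp).1 h with h | h
        · rcases (Nat.Prime.dvd_mul hp).1 h with h | h
          · have := key 2 13 (by norm_num) h; omega
          · have := key 3 7 (by norm_num) h; omega
        · have := key 5 2 (by norm_num) h; omega
      · have := key' 7 (by norm_num) h; omega
    · have := key' 11 (by norm_num) h; omega
  · have := key' 13 (by norm_num) h; omega

theorem cj_cj {Y : Type*} [Group Y] (a b : Y) (D : Subgroup Y) : cj a (cj b D) = cj (a * b) D := by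
  ext x
  rw [mem_cj, mem_cj, mem_cj, mul_inv_rev]
  have : b⁻¹ * (a⁻¹ * x * a) * b = b⁻¹ * a⁻¹ * x * (a * b) := by group
  rw [this]

theorem cj_one {Y : Type*} [Group Y] (D : Subgroup Y) : cj 1 D = D := by
  ext x
  rw [mem_cj, inv_one, one_mul, mul_one]

/-- two subgroups of order at least nine of a group of order not divisible by 27 -/
theorem cj_of_nine {Y : Type*} [Group Y] [Finite Y] {C D R : Subgroup Y} (hD : IsPGroup 3 D) (hDC : D ≤ C)
    (h9 : 9 ∣ Nat.card D) (hR : Nat.card R = 9) (hRC : R ≤ C) (hC : ¬ 27 ∣ Nat.card C) : ∃ c : Y, D = cj c R := by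
  have : Fact (Nat.Prime 3) := ⟨Nat.prime_three⟩
  have hidx : ¬ 3 ∣ R.relIndex C := by
    rintro ⟨k, hk⟩
    apply hC
    rw [← CpAutSuz.Classes.relIndex_mul hRC, hR, hk]
    exact ⟨k, by ring⟩
  obtain ⟨c, -, hc⟩ := SuzThree.GoodX.exists_conj_le hDC (IsPGroup.of_card (n := 2) (by rw [hR]; norm_num)) hD hidx
  have h1 : cj c D = R := by
    refine eq_of_le_of_card_ge hc ?_
    rw [card_cj, hR]
    exact Nat.le_of_dvd Nat.card_pos h9
  refine ⟨c⁻¹, ?_⟩
  rw [← h1, cj_cj, inv_mul_cancel, cj_one]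

variable {D : Subgroup Suz}

/-- `D` centralizes an involution -/
theorem cj_of_inv (hD : IsPGroup 3 D) (hti : TI D) (hrk : Rk2 3 D) {t : Suz} (ht : orderOf t = 2) (hDt : D ≤ C1 t) :
    ∃ g : Suz, D = cj g E := by
  have : Fact (Nat.Prime 3) := ⟨Nat.prime_three⟩
  have := finite_Suz
  rcases CpAutSuz.Classes.exists_conj_inv ht with ⟨g, rfl⟩ | ⟨g, rfl⟩
  · exfalso
    have hc : ∀ d ∈ D, g⁻¹ * d * g ∈ SuzThree.CentA.C1 := by
      intro d hd
      rw [SuzThree.CentA.mem_C1]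
      have h1 := mem_C1.1 (hDt hd)
      calc g⁻¹ * d * g * z0 = g⁻¹ * (d * (g * z0 * g⁻¹)) * g := by group
        _ = g⁻¹ * (g * z0 * g⁻¹ * d) * g := by rw [h1]
        _ = z0 * (g⁻¹ * d * g) := by group
    have hn : D ≤ Nz (cj g Q0) := by
      refine le_Nz fun d hd x hx => ?_
      rw [mem_cj] at hx ⊢
      have h1 := KFacts.SuzR.normal_R (hc d hd) hx
      have h2 : g⁻¹ * d * g * (g⁻¹ * x * g) * (g⁻¹ * d * g)⁻¹ = g⁻¹ * (d * x * d⁻¹) * g := by group
      rwa [h2] at h1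
    have h1 := hti.cent_of_coprime hD le_rfl hrk (Y := cj g Q0) (by rw [card_cj, KFacts.SuzR.card_R]; norm_num) hn
    apply hrk.ne_bot
    rw [eq_bot_iff]
    intro d hd
    rw [mem_bot]
    have h2 : g⁻¹ * d * g = 1 ∨ g⁻¹ * d * g = z0 := by
      refine KFacts.SuzR.centralizer_R fun y hy => ?_
      have h3 : g * y * g⁻¹ ∈ cj g Q0 := ⟨y, hy, rfl⟩
      have h4 := mem_Cz.1 (h1 h3) d hd
      calc y * (g⁻¹ * d * g) = g⁻¹ * (g * y * g⁻¹ * d) * g := by group
        _ = g⁻¹ * (d * (g * y * g⁻¹)) * g := by rw [h4]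
        _ = g⁻¹ * d * g * y := by group
    obtain ⟨k, hk⟩ := pow_eq_one_of_mem hD hd
    refine eq_one_of_pow hk ?_
    have h3 : d ^ 2 = 1 := by
      have h4 : d = g * (g⁻¹ * d * g) * g⁻¹ := by group
      rcases h2 with h2 | h2
      · rw [h4, h2]; group
      · rw [h4, h2, ← ht, pow_orderOf_eq_one]
    intro h4
    have := h4.trans (orderOf_dvd_of_pow_eq_one h3)
    omega
  · have h1 : cj g E ≤ C1 (g * e0 * g⁻¹) := by
      rintro _ ⟨x, hx, rfl⟩
      rw [mem_C1]
      change g * e0 * g⁻¹ * (g * x * g⁻¹) = g * x * g⁻¹ * (g * e0 * g⁻¹)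
      calc g * e0 * g⁻¹ * (g * x * g⁻¹) = g * (e0 * x) * g⁻¹ := by group
        _ = g * (x * e0) * g⁻¹ := by rw [e0_comm x (E_le_L hx)]
        _ = _ := by group
    have h2 : Nat.card (C1 (g * e0 * g⁻¹)) = 161280 := by
      rw [← card_CE]
      exact CpAut.SporThree.Cent.card_centralizer_conj g e0
    obtain ⟨c, hc⟩ := cj_of_nine hD hDt hrk.sq_dvd (by rw [card_cj, card_E]) h1 (by rw [h2]; norm_num)
    exact ⟨c * g, by rw [hc, cj_cj]⟩

theorem fam_of_nine {r : Suz} (h : orderOf r = 5) (h9 : 9 ∣ Nat.card (C1 r)) : fam r = 34 := by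
  rcases fam_five h with h1 | h1
  · exfalso
    have h2 := cent_mul r
    rw [h1, show SZ.getD 14 0 = 1494484992 from rfl] at h2
    change 9 ∣ Nat.card (centralizer ({r} : Set Suz)) at h9
    omega
  · exact h1

/-- **The defect group.** -/
theorem exists_cj (hD : IsPGroup 3 D) (hti : TI D) (hrk : Rk2 3 D) (hc : ¬ IsPGroup 3 (Cz D)) :
    ∃ g : Suz, D = cj g E := by
  have : Fact (Nat.Prime 3) := ⟨Nat.prime_three⟩
  have := finite_Suz
  obtain ⟨y, hy, hy3, hy1⟩ : ∃ y ∈ Cz D, ¬ 3 ∣ orderOf y ∧ y ≠ 1 := by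
    by_contra hcon
    push Not at hcon
    exact hc (isPGroup_of_reg hcon)
  obtain ⟨l, hl, hly⟩ := Nat.exists_prime_and_dvd (fun h => hy1 (orderOf_eq_one_iff.1 h))
  have hr : orderOf (y ^ (orderOf y / l)) = l := orderOf_pow_orderOf_div (orderOf_pos y).ne' hly
  set r := y ^ (orderOf y / l) with hrdef
  have hDr : D ≤ C1 r := fun d hd => mem_C1.2 (mem_Cz.1 ((Cz D).pow_mem hy _) d hd).symm
  have h9 : 9 ∣ Nat.card (C1 r) := hrk.sq_dvd.trans (card_dvd_of_le hDr)
  have hbig : orderOf r = 7 ∨ orderOf r = 11 ∨ orderOf r = 13 → False := by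
    intro h
    have h2 := cent_mul r
    change 9 ∣ Nat.card (centralizer ({r} : Set Suz)) at h9
    rcases fam_big h with h1 | h1 | h1
    · rw [h1, show SZ.getD 9 0 = 40758681600 from rfl] at h2
      omega
    · rw [h1, show SZ.getD 16 0 = 68976230400 from rfl] at h2
      omega
    · rw [h1, show SZ.getD 29 0 = 5337446400 from rfl] at h2
      omega
  have hd : l ∣ 448345497600 := by
    rw [← card_Suz, ← hr]
    exact orderOf_dvd_natCard r
  rcases prime_cases hl hd with rfl | rfl | rfl | rfl | rfl | rfl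
  · exact cj_of_inv hD hti hrk hr hDr
  · exact absurd hly hy3
  · have : Fact (Nat.Prime 5) := ⟨Nat.prime_five⟩
    have hE : E ≤ C1 PreUniq.Spor.SuzP.y := fun x hx => mem_C1.2 (comm_X (A_le y_mem) hx).symm
    have h1 := fam_of_nine hr h9
    have h2 := fam_of_nine (orderOf_eq_prime y_five y_ne) (by rw [← card_E]; exact card_dvd_of_le hE)
    obtain ⟨σ, hσ, -⟩ := fam_gal _ _ (h2.trans h1.symm)
    have h3 : E.map σ.toMonoidHom ≤ C1 r := by
      rintro _ ⟨x, hx, rfl⟩
      rw [mem_C1, ← hσ, MulEquiv.coe_toMonoidHom, ← map_mul, ← map_mul, mem_C1.1 (hE hx)]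
    have h4 : ¬ 27 ∣ Nat.card (C1 r) := by
      have h5 := cent_mul r
      rw [h1, show SZ.getD 34 0 = 249080832 from rfl] at h5
      change ¬ 27 ∣ Nat.card (centralizer ({r} : Set Suz))
      omega
    obtain ⟨c, hc⟩ := cj_of_nine hD hDr hrk.sq_dvd (by rw [card_map_of_injective σ.injective, card_E]) h3 h4
    refine cj_of_inv hD hti hrk (t := c * σ e0 * c⁻¹) ?_ ?_
    · rw [CpAutSuz.Classes.orderOf_conj, MulEquiv.orderOf_eq, ord_e0]
    · rw [hc]
      rintro _ ⟨_, ⟨x, hx, rfl⟩, rfl⟩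
      rw [mem_C1]
      change c * σ e0 * c⁻¹ * (c * σ x * c⁻¹) = c * σ x * c⁻¹ * (c * σ e0 * c⁻¹)
      calc c * σ e0 * c⁻¹ * (c * σ x * c⁻¹) = c * σ (e0 * x) * c⁻¹ := by rw [map_mul]; group
        _ = c * σ (x * e0) * c⁻¹ := by rw [e0_comm x (E_le_L hx)]
        _ = _ := by rw [map_mul]; group
  · exact (hbig (Or.inl hr)).elim
  · exact (hbig (Or.inr (Or.inl hr))).elim
  · exact (hbig (Or.inr (Or.inr hr))).elim

/-! ### The local structure -/

/-- the derived group of `C(E)` -/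
noncomputable def K0 : Subgroup Suz := (commutator X).map X.subtype

theorem K0_le : K0 ≤ X := map_subtype_le _

theorem comm_inf {x : X} (hx : x ∈ commutator X) (hE : (x : Suz) ∈ E) : x = 1 := by
  have := finite_Suz
  have hc : IsMulCommutative ((E ⊔ F).subgroupOf X) :=
    ⟨⟨fun a b => Subtype.ext (Subtype.ext (sup_comm' _ (mem_subgroupOf.1 a.2) _ (mem_subgroupOf.1 b.2)))⟩⟩
  have h1 := Cfsg.Agent.S0089.pow_index_eq_one_of_mem ((E ⊔ F).subgroupOf X) x hx
    (mem_center_iff.2 fun g => Subtype.ext (comm_X g.2 hE).symm)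
  have h2 := ((E ⊔ F).subgroupOf X).card_mul_index
  rw [Nat.card_congr (subgroupOfEquivOfLe sup_le_X).toEquiv, card_sup, card_X] at h2
  have h3 : ((E ⊔ F).subgroupOf X).index = 40 := by omega
  rw [h3] at h1
  have h4 : x ^ 3 = 1 := Subtype.ext (cube_E hE)
  calc x = x ^ 40 * ((x ^ 3) ^ 13)⁻¹ := by group
    _ = 1 := by rw [h1, h4]; group

/-- `C(E) / E ≅ A₆` -/
theorem exists_f : ∃ f : X →* alternatingGroup (Fin 6), Function.Surjective f ∧ ∀ x, f x = 1 ↔ (x : Suz) ∈ E := by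
  have := finite_Suz
  have hsimple := simple_X
  obtain ⟨e⟩ := Cfsg.Agent.S0497.result card_quot
  refine ⟨e.toMonoidHom.comp (QuotientGroup.mk' _), e.surjective.comp (QuotientGroup.mk'_surjective _), fun x => ?_⟩
  rw [MonoidHom.comp_apply, MulEquiv.coe_toMonoidHom, map_eq_one_iff e e.injective, QuotientGroup.mk'_apply,
    QuotientGroup.eq_one_iff, mem_subgroupOf]

theorem perf_six : commutator (alternatingGroup (Fin 6)) = ⊤ := by
  have hs : IsSimpleGroup (alternatingGroup (Fin 6)) := alternatingGroup.isSimpleGroup (by simp)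
  rcases hs.eq_bot_or_eq_top_of_normal (commutator (alternatingGroup (Fin 6))) inferInstance with h | h
  · exfalso
    have h1 := (commutator_eq_bot_iff_center_eq_top _).1 h
    have h2 : IsMulCommutative (alternatingGroup (Fin 6)) :=
      ⟨⟨fun a b => mem_center_iff.1 (h1 ▸ mem_top b) a⟩⟩
    have h3 : (Nat.card (alternatingGroup (Fin 6))).Prime := by
      let _ : CommGroup (alternatingGroup (Fin 6)) := { mul_comm := h2.1.1 }
      exact IsSimpleGroup.prime_card
    rw [nat_card_alternatingGroup, Nat.card_fin] at h3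
    exact absurd h3 (by decide)
  · exact h

theorem map_comm {f : X →* alternatingGroup (Fin 6)} (hf : Function.Surjective f) : (commutator X).map f = ⊤ := by
  rw [commutator_def, map_commutator, ← MonoidHom.range_eq_map, MonoidHom.range_eq_top.2 hf]
  exact perf_six

theorem sup_K0 : E ⊔ K0 = X := by
  refine le_antisymm (sup_le E_le_X K0_le) fun x hx => ?_
  obtain ⟨f, hf, hker⟩ := exists_f
  have h1 : f ⟨x, hx⟩ ∈ (commutator X).map f := by rw [map_comm hf]; trivial
  obtain ⟨k, hk, hkx⟩ := h1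
  have h2 : ((⟨x, hx⟩ * k⁻¹ : X) : Suz) ∈ E := (hker _).1 (by rw [map_mul, map_inv, hkx, mul_inv_cancel])
  have h3 : x = ((⟨x, hx⟩ * k⁻¹ : X) : Suz) * k := by
    rw [← coe_mul, inv_mul_cancel_right]
  rw [h3]
  exact mul_mem ((le_sup_left : E ≤ E ⊔ K0) h2) ((le_sup_right : K0 ≤ E ⊔ K0) ⟨k, hk, rfl⟩)

theorem iso_K0 : Nonempty (K0 ≃* alternatingGroup (Fin 6)) := by
  obtain ⟨f, hf, hker⟩ := exists_f
  have hb : Function.Bijective (f.comp (commutator X).subtype) := by
    constructor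
    · rw [injective_iff_map_eq_one]
      intro k hk
      exact Subtype.ext (comm_inf k.2 ((hker _).1 hk))
    · intro a
      have h1 : a ∈ (commutator X).map f := by rw [map_comm hf]; trivial
      obtain ⟨k, hk, rfl⟩ := h1
      exact ⟨⟨k, hk⟩, rfl⟩
  exact ⟨((commutator X).equivMapOfInjective X.subtype X.subtype_injective).symm.trans (MulEquiv.ofBijective _ hb)⟩

/-- the words of `E` -/
def ew (i j : ℕ) : List Suz.Gen := (List.replicate i x1w).flatten ++ (List.replicate j x2w).flatten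

theorem ew_mem (i j : ℕ) : el (ew i j) ∈ E := by
  have h := CpAutSuz.ThreeC.el_ew i j
  change el (ew i j) = _ at h
  rw [h]
  exact mul_mem (pow_mem x1E i) (pow_mem x2E j)

theorem mem_Nz {w : List Suz.Gen} {i j k l : ℕ} (h1 : checkEq 11 (wd (cw w x1w)) (wd (ew i j)) = true)
    (h2 : checkEq 11 (wd (cw w x2w)) (wd (ew k l)) = true) :
    el w ∈ Nz E ∧ el w * el x1w * (el w)⁻¹ = el x1w ^ i * el x2w ^ j := by
  have := finite_Suz
  have h3 := weq h1
  have h4 := weq h2
  rw [el_cw] at h3 h4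
  refine ⟨?_, h3.trans (CpAutSuz.ThreeC.el_ew i j)⟩
  have h5 : cj (el w) E ≤ E := by
    rw [map_le_iff_le_comap]
    conv_lhs => rw [E]
    rw [closure_le]
    rintro _ (rfl | rfl)
    · change el w * el x1w * (el w)⁻¹ ∈ E
      rw [h3]; exact ew_mem i j
    · change el w * el x2w * (el w)⁻¹ ∈ E
      rw [h4]; exact ew_mem k l
  have h6 : cj (el w) E = E := eq_of_le_of_card_ge h5 (by rw [card_cj])
  rw [mem_normalizer_iff]
  intro x
  refine ⟨fun hx => h5 ⟨x, hx, rfl⟩, fun hx => ?_⟩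
  rw [← h6, mem_cj] at hx
  have h7 : (el w)⁻¹ * (el w * x * (el w)⁻¹) * el w = x := by group
  rwa [h7] at hx

theorem from_x1 {x : Suz} (hx : x ∈ E) (hx1 : x ≠ 1) : ∃ n ∈ Nz E, n * el x1w * n⁻¹ = x := by
  obtain ⟨i, j, rfl⟩ := PreUniq.Spor.ONP.mem_pair x12 cube_x1 cube_x2 hx
  fin_cases i <;> fin_cases j
  · exact absurd (by simp) hx1
  · exact ⟨_, mem_Nz (w := [.b, .c, .f, .b, .g, .f, .b]) (i := 0) (j := 1) (k := 2) (l := 0)
      (by decide +kernel) (by decide +kernel)⟩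
  · exact ⟨_, mem_Nz (w := [.b, .f, .g, .b, .c, .f, .b]) (i := 0) (j := 2) (k := 1) (l := 0)
      (by decide +kernel) (by decide +kernel)⟩
  · exact ⟨1, one_mem _, by simp⟩
  · exact ⟨_, mem_Nz (w := [.b, .f, .g, .b, .a, .b, .g]) (i := 1) (j := 1) (k := 1) (l := 2)
      (by decide +kernel) (by decide +kernel)⟩
  · exact ⟨_, mem_Nz (w := [.g, .b, .a, .c, .f, .b]) (i := 1) (j := 2) (k := 2) (l := 2)
      (by decide +kernel) (by decide +kernel)⟩
  · exact ⟨_, mem_Nz (w := [.a, .b, .c, .f, .b, .a]) (i := 2) (j := 0) (k := 0) (l := 2)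
      (by decide +kernel) (by decide +kernel)⟩
  · exact ⟨_, mem_Nz (w := [.b, .a, .c, .f, .b, .g]) (i := 2) (j := 1) (k := 1) (l := 1)
      (by decide +kernel) (by decide +kernel)⟩
  · exact ⟨_, mem_Nz (w := [.g, .b, .a, .b, .g, .f, .b]) (i := 2) (j := 2) (k := 2) (l := 1)
      (by decide +kernel) (by decide +kernel)⟩

/-- **The local structure of `E`.** -/
theorem loc9 : N9.Loc9 E K0 where
  card := card_E
  iso := iso_K0
  cent x hx hx1 := by rw [centralizer_eq hx hx1, sup_K0]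
  trans x hx hx1 y hy hy1 := by
    obtain ⟨n, hn, rfl⟩ := from_x1 hx hx1
    obtain ⟨m, hm, rfl⟩ := from_x1 hy hy1
    exact ⟨m * n⁻¹, mul_mem hm (inv_mem hn), by group⟩
  nonab := by
    refine ⟨el [.b, .a, .c, .f, .b, .g], (mem_Nz (i := 2) (j := 1) (k := 1) (l := 1)
      (by decide +kernel) (by decide +kernel)).1, el [.b, .c, .f, .b, .g, .f, .b], (mem_Nz (i := 0) (j := 1) (k := 2) (l := 0)
      (by decide +kernel) (by decide +kernel)).1, ?_⟩
    rw [sup_K0]
    intro h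
    have h1 := comm_X h x1E
    rw [← el_reverse, ← el_reverse, ← el_append, ← el_append, ← el_append] at h1
    set w : List Suz.Gen := [.b, .a, .c, .f, .b, .g] ++ [.b, .c, .f, .b, .g, .f, .b] ++
      ([.b, .a, .c, .f, .b, .g] : List Suz.Gen).reverse ++ ([.b, .c, .f, .b, .g, .f, .b] : List Suz.Gen).reverse with hw
    have h2 : el (x1w ++ w ++ x1w.reverse ++ w.reverse) = 1 := by
      rw [el_append, el_append, el_append, el_reverse, el_reverse, h1]
      group
    exact ne_one_of 0 (by decide +kernel) h2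

end Cfsg.Agent.TID.Suz
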