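import Cfsg.Agent.H714.S8.SuzGen

/-!
# S4622, row `Suz`: the invariant characters of the 3-block of defect two (helper31)

Irreducible characters of degree 15795, 88452, 243243, 248832, 780, 197120 given by tables on helper714's families.
-/

set_option autoImplicit false
set_option maxRecDepth 100000

namespace Cfsg.Agent.TID.Suz

open Cfsg Cfsg.Spor Cfsg.Agent.H300.Cls Cfsg.Agent.H714.S8.SuzFam Cfsg.Agent.H714.S8.Fam
open Cfsg.Agent.SporadicRecognition.SuzOrder (card_Suz)

/-- a generalized character of degree 4785 -/
def u1 : List ℤ := [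
  -15, 4785, 1, 0, -48, 0, 15, 1, -2, 0, 0, -3, -1, 1, -5, -1, 1, 1, 0, -1, 0, 0, -1, -1, -3, 0, 4, -1, -3, 4,
  -7, -91, -6, -3, 0, 25, 141]

theorem gu1 : GC fam u1 := GC.lin fam_lt [
    (-55638271473244779525054841640, v0), (-604531439624052234144555711202, v1),
    (418006631843988755960796481237, v2), (-1558561181284406236549141306666, v8),
    (-1794170999026525257703819301118, v9), (-3278086615319787475088935854968, v10),
    (937225815247835820296409211372, v11), (-104301401053267934684053222342, v12),
    (-203321819498428256266997362548, v13), (-83495962171024401633682681914, v14),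
    (-36843502965941393672310626851, v15), (-59612133676946494403502677867, v16),
    (278763179299753847774968119968, v19), (339204216805177355441003364213, v20),
    (-337036524534739957114920316652, v23), (105559479515058207196984639793, v25),
    (829007200755076803551698328728, v26), (1057842613449277187532928261018, v27),
    (-325745054721438057146558718906, v28), (-12705809356566372449681780559, v30),
    (926092442063258119153501052750, v31), (-307734291369221455504871499817, v32),
    (-20781623081608048047267174406, v34), (14387543005578752974696847162, v35),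
    (1195951185479319482071350966296, v36), (-109425044590674037068920998968, v37), (-11, v38),
    (-8938272168621728066701225400, v39), (3580822410445568806827099512, v40),
    (454877262495557079130568873637, v41), (-273174462432354775717015954029, v42),
    (8819427531676537093952897350, v44), (-6364541339531577875004064624, v45),
    (374791620877840585767304446352, v46), (-10443303339852456789906898876, v47),
    (-743853080074740866624240491777, v58), (860277601402800465906113886568, v59),
    (-1348005646146024626605112421867, w243243), (839845507545350111423035842987, w197120)]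
    (List.forall_mem_cons.2 ⟨g0, List.forall_mem_cons.2 ⟨g1, List.forall_mem_cons.2 ⟨g2,
    List.forall_mem_cons.2 ⟨g8, List.forall_mem_cons.2 ⟨g9, List.forall_mem_cons.2 ⟨g10,
    List.forall_mem_cons.2 ⟨g11, List.forall_mem_cons.2 ⟨g12, List.forall_mem_cons.2 ⟨g13,
    List.forall_mem_cons.2 ⟨g14, List.forall_mem_cons.2 ⟨g15, List.forall_mem_cons.2 ⟨g16,
    List.forall_mem_cons.2 ⟨g19, List.forall_mem_cons.2 ⟨g20, List.forall_mem_cons.2 ⟨g23,
    List.forall_mem_cons.2 ⟨g25, List.forall_mem_cons.2 ⟨g26, List.forall_mem_cons.2 ⟨g27,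
    List.forall_mem_cons.2 ⟨g28, List.forall_mem_cons.2 ⟨g30, List.forall_mem_cons.2 ⟨g31,
    List.forall_mem_cons.2 ⟨g32, List.forall_mem_cons.2 ⟨g34, List.forall_mem_cons.2 ⟨g35,
    List.forall_mem_cons.2 ⟨g36, List.forall_mem_cons.2 ⟨g37, List.forall_mem_cons.2 ⟨g38,
    List.forall_mem_cons.2 ⟨g39, List.forall_mem_cons.2 ⟨g40, List.forall_mem_cons.2 ⟨g41,
    List.forall_mem_cons.2 ⟨g42, List.forall_mem_cons.2 ⟨g44, List.forall_mem_cons.2 ⟨g45,
    List.forall_mem_cons.2 ⟨g46, List.forall_mem_cons.2 ⟨g47, List.forall_mem_cons.2 ⟨g58,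
    List.forall_mem_cons.2 ⟨g59, List.forall_mem_cons.2 ⟨gc243243, List.forall_mem_cons.2 ⟨gc197120,
    List.forall_mem_nil _⟩⟩⟩⟩⟩⟩⟩⟩⟩⟩⟩⟩⟩⟩⟩⟩⟩⟩⟩⟩⟩⟩⟩⟩⟩⟩⟩⟩⟩⟩⟩⟩⟩⟩⟩⟩⟩⟩⟩) u1 (by decide +kernel)

/-- its exterior square -/
def u2 : List ℤ := [
  -2280, 11445720, 8, 24, 1176, 0, 105, 2, 2, 0, -2, 4, 3, 0, 15, -7, 0, 0, 0, 1, 0, 0, 46, 2, 6, 0, 8, 0,
  -66, 6, 12, 1748, 42, 12, 0, 320, 9870]

theorem gu2 : GC fam u2 := galt gu1 u2 (by decide +kernel)

/-- the character of degree 88452 -/
def w88452 : List ℤ := [
  324, 88452, -12, 0, 0, -1, 18, 0, 0, 1, 0, 0, 1, 0, -3, 2, 0, 0, -2, 2, 0, 0, 2, -2, 0, -1, 0, 0, 0, 0, 0,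
  56, 0, 0, 7, -36, 0]

theorem gc88452 : GC fam w88452 := GC.lin fam_lt [
    (-13266449797170981451162264695663426, v0), (-144145132158547088798339213324858629, v1),
    (99669954680556554671196237515001412, v2), (-371625018531928794255612454421338069, v8),
    (-427804079024480399577255851239476837, v9), (-781630528076897585758841128076972624, v10),
    (223473139933492225436358024019319499, v11), (-24869739195854977962888323907965969, v12),
    (-48480275170706172868821376406881018, v13), (-19908867782512775581841524647164128, v14),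
    (-8785004808868413464923476575218922, v15), (-14213981811202644398608968579699627, v16), (-3, v17),
    (66468594827902575624977962552216932, v19), (80880221367023504668114802273361041, v20),
    (-80363354470910417922491308068130314, v23), (25169716788837331984339418355609163, v25),
    (197669376116387071811634226534432272, v26), (252233140121571489770888510267018124, v27),
    (-77671004161528939801757335503696820, v28), (-3029586964116424380599939194518857, v30),
    (220818486355740523913444259668017211, v31), (-73376498212762919378313882251304086, v32),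
    (-4955192748007280384168989940691649, v34), (3430581359450301774377793005339782, v35),
    (285163897833492827286446894282057221, v36), (-26091426318185586404002654914199308, v37), (-2622848, v38),
    (-2131251310628743229917553326326497, v39), (853815179423841996229394005532140, v40),
    (108461427844209429030789285830605473, v41), (-65136015116334686131416529503560600, v42),
    (2102913866492748417882711204259253, v44), (-1517568140187782398409506624551466, v45),
    (89365720593372696228534005332799826, v46), (-2490112575503072008903180298483924, v47),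
    (-177365135220421056598213783823680031, v58), (205125524363730445835871372915959066, v59),
    (-321419928358107373083968080982677898, w243243), (200253673743042163873245114703723069, w197120), (-1, u2)]
    (List.forall_mem_cons.2 ⟨g0, List.forall_mem_cons.2 ⟨g1, List.forall_mem_cons.2 ⟨g2,
    List.forall_mem_cons.2 ⟨g8, List.forall_mem_cons.2 ⟨g9, List.forall_mem_cons.2 ⟨g10,
    List.forall_mem_cons.2 ⟨g11, List.forall_mem_cons.2 ⟨g12, List.forall_mem_cons.2 ⟨g13,
    List.forall_mem_cons.2 ⟨g14, List.forall_mem_cons.2 ⟨g15, List.forall_mem_cons.2 ⟨g16,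
    List.forall_mem_cons.2 ⟨g17, List.forall_mem_cons.2 ⟨g19, List.forall_mem_cons.2 ⟨g20,
    List.forall_mem_cons.2 ⟨g23, List.forall_mem_cons.2 ⟨g25, List.forall_mem_cons.2 ⟨g26,
    List.forall_mem_cons.2 ⟨g27, List.forall_mem_cons.2 ⟨g28, List.forall_mem_cons.2 ⟨g30,
    List.forall_mem_cons.2 ⟨g31, List.forall_mem_cons.2 ⟨g32, List.forall_mem_cons.2 ⟨g34,
    List.forall_mem_cons.2 ⟨g35, List.forall_mem_cons.2 ⟨g36, List.forall_mem_cons.2 ⟨g37,
    List.forall_mem_cons.2 ⟨g38, List.forall_mem_cons.2 ⟨g39, List.forall_mem_cons.2 ⟨g40,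
    List.forall_mem_cons.2 ⟨g41, List.forall_mem_cons.2 ⟨g42, List.forall_mem_cons.2 ⟨g44,
    List.forall_mem_cons.2 ⟨g45, List.forall_mem_cons.2 ⟨g46, List.forall_mem_cons.2 ⟨g47,
    List.forall_mem_cons.2 ⟨g58, List.forall_mem_cons.2 ⟨g59, List.forall_mem_cons.2 ⟨gc243243,
    List.forall_mem_cons.2 ⟨gc197120, List.forall_mem_cons.2 ⟨gu2,
    List.forall_mem_nil _⟩⟩⟩⟩⟩⟩⟩⟩⟩⟩⟩⟩⟩⟩⟩⟩⟩⟩⟩⟩⟩⟩⟩⟩⟩⟩⟩⟩⟩⟩⟩⟩⟩⟩⟩⟩⟩⟩⟩⟩⟩) w88452 (by decide +kernel)

/-- the character of degree 15795 -/
def w15795 : List ℤ := [
  243, 15795, 3, 0, 0, 2, 9, 0, 0, -1, -1, -1, 0, 0, 0, 1, 0, 0, -1, 1, 0, 0, 1, 1, 0, -2, 0, 0, 0, 3, 3, 55,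
  0, 15, -10, 27, 0]

theorem gc15795 : GC fam w15795 := GC.lin fam_lt [
    (13266515551442736372924776401813900, v0), (144145846604260675518250187147405849, v1),
    (-99670448688025475528099221858916553, v2), (371626860466495545275099886542229422, v8),
    (427806199406805747712979689481049915, v9), (781634402176369629231078022470983915, v10),
    (-223474247563174451800442001791804719, v11), (24869862461055130229486601696391410, v12),
    (48480515459949871494391769847081290, v13), (19908966459485328051052108155737560, v14),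
    (8785048351157601775885168072568350, v15), (14214052261853498453015820442257642, v16), (3, v17),
    (-66468924275050403652425853446156891, v19), (-80880622244435071067958201125206345, v20),
    (80363752786505758598535839707756226, v23), (-25169841540856374829731125332809690, v25),
    (-197670355851438536329707985088402420, v26), (-252234390298272470303333980819107304, v27),
    (77671389132669915582899501408556529, v28), (3029601980061729217178200090759189, v30),
    (-220819580827809716240054115703230053, v31), (73376861898472183918525290237336094, v32),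
    (4955217308088954983291498429981849, v34), (-3430598362897526575028515204549435, v35),
    (-285165311229293475833395453333117401, v36), (26091555638596308897571352466845909, v37), (2622861, v38),
    (2131261874033421925466250880490886, v39), (-853819411301713971039986314612218, v40),
    (-108461965426027506374570045572970359, v41), (65136337958640236896752704843761413, v42),
    (-2102924289444779189835440863191058, v44), (1517575661912842391305989766473073, v45),
    (-89366163528594048674184342690576620, v46), (2490124917579625518576586542510232, v47),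
    (177366014318859556625339892837871192, v58), (-205126541054682365753003736764873451, v59),
    (321421521454500140753832898645233362, w243243), (-200254666286992093066840237318372967, w197120), (1, u2)]
    (List.forall_mem_cons.2 ⟨g0, List.forall_mem_cons.2 ⟨g1, List.forall_mem_cons.2 ⟨g2,
    List.forall_mem_cons.2 ⟨g8, List.forall_mem_cons.2 ⟨g9, List.forall_mem_cons.2 ⟨g10,
    List.forall_mem_cons.2 ⟨g11, List.forall_mem_cons.2 ⟨g12, List.forall_mem_cons.2 ⟨g13,
    List.forall_mem_cons.2 ⟨g14, List.forall_mem_cons.2 ⟨g15, List.forall_mem_cons.2 ⟨g16,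
    List.forall_mem_cons.2 ⟨g17, List.forall_mem_cons.2 ⟨g19, List.forall_mem_cons.2 ⟨g20,
    List.forall_mem_cons.2 ⟨g23, List.forall_mem_cons.2 ⟨g25, List.forall_mem_cons.2 ⟨g26,
    List.forall_mem_cons.2 ⟨g27, List.forall_mem_cons.2 ⟨g28, List.forall_mem_cons.2 ⟨g30,
    List.forall_mem_cons.2 ⟨g31, List.forall_mem_cons.2 ⟨g32, List.forall_mem_cons.2 ⟨g34,
    List.forall_mem_cons.2 ⟨g35, List.forall_mem_cons.2 ⟨g36, List.forall_mem_cons.2 ⟨g37,
    List.forall_mem_cons.2 ⟨g38, List.forall_mem_cons.2 ⟨g39, List.forall_mem_cons.2 ⟨g40,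
    List.forall_mem_cons.2 ⟨g41, List.forall_mem_cons.2 ⟨g42, List.forall_mem_cons.2 ⟨g44,
    List.forall_mem_cons.2 ⟨g45, List.forall_mem_cons.2 ⟨g46, List.forall_mem_cons.2 ⟨g47,
    List.forall_mem_cons.2 ⟨g58, List.forall_mem_cons.2 ⟨g59, List.forall_mem_cons.2 ⟨gc243243,
    List.forall_mem_cons.2 ⟨gc197120, List.forall_mem_cons.2 ⟨gu2,
    List.forall_mem_nil _⟩⟩⟩⟩⟩⟩⟩⟩⟩⟩⟩⟩⟩⟩⟩⟩⟩⟩⟩⟩⟩⟩⟩⟩⟩⟩⟩⟩⟩⟩⟩⟩⟩⟩⟩⟩⟩⟩⟩⟩⟩) w15795 (by decide +kernel)

/-- the character of degree 248832 -/
def w248832 : List ℤ := [
  0, 248832, 0, 0, 0, 0, -9, 0, 0, 1, -1, 0, 1, 0, -3, -1, -1, 0, 1, -1, 0, 0, 8, 0, 0, 0, 0, 0, 0, 3, 0, -64,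
  0, 0, -8, 0, 0]

theorem gc248832 : GC fam w248832 := GC.lin fam_lt [
    (-13266576247765023573545223121339548, v0), (-144146506093387864015018761115325793, v1),
    (99670904695456561710182889521436593, v2), (-371628560715789038315721955911672347, v8),
    (-427808156685101994390952738258433427, v9), (-781637978272398861334398471159591090, v10),
    (223475269991776776771861446419915787, v11), (-24869976244450726550566550889519085, v12),
    (-48480737265666647420716179976387128, v13), (-19909057546028734588202401761184719, v14),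
    (-8785088544087234494282406016684772, v15), (-14214117293300056305929524240219081, v16), (-3, v17),
    (66469228380467853922418683562798253, v19), (80880992285558190520894322682902896, v20),
    (-80364120462872655723257671803451957, v23), (25169956696701793143001994541408573, v25),
    (197671260223319672803120641484413857, v26), (252235544308893126046069364634809755, v27),
    (-77671744491064439789113135978860507, v28), (-3029615840950631862775765615671973, v30),
    (220820591110908792071879314036331301, v31), (-73377197608752772911451489760418361, v32),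
    (-4955239978960260159865237339275078, v34), (3430614058405745364748603413402558, v35),
    (285166615903875764380555217512756970, v36), (-26091675011423625445256759956332004, v37), (-2622873, v38),
    (-2131271624879986205703912962064899, v39), (853823317655116451384335226176636, v40),
    (108462461655982076883287249768724282, v41), (-65136635967273024855854913976257022, v42),
    (2102933910642592796726933134002908, v44), (-1517582605051838723810964811440727, v45),
    (89366572392356509069112707636193975, v46), (-2490136310279083543571743598139759, v47),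
    (-177366825795296315710366493009730527, v58), (205127479539742533620805972874082831, v59),
    (-321422992006747307349892376181674159, w243243), (200255582482485728111977152470828212, w197120), (-1, u2)]
    (List.forall_mem_cons.2 ⟨g0, List.forall_mem_cons.2 ⟨g1, List.forall_mem_cons.2 ⟨g2,
    List.forall_mem_cons.2 ⟨g8, List.forall_mem_cons.2 ⟨g9, List.forall_mem_cons.2 ⟨g10,
    List.forall_mem_cons.2 ⟨g11, List.forall_mem_cons.2 ⟨g12, List.forall_mem_cons.2 ⟨g13,
    List.forall_mem_cons.2 ⟨g14, List.forall_mem_cons.2 ⟨g15, List.forall_mem_cons.2 ⟨g16,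
    List.forall_mem_cons.2 ⟨g17, List.forall_mem_cons.2 ⟨g19, List.forall_mem_cons.2 ⟨g20,
    List.forall_mem_cons.2 ⟨g23, List.forall_mem_cons.2 ⟨g25, List.forall_mem_cons.2 ⟨g26,
    List.forall_mem_cons.2 ⟨g27, List.forall_mem_cons.2 ⟨g28, List.forall_mem_cons.2 ⟨g30,
    List.forall_mem_cons.2 ⟨g31, List.forall_mem_cons.2 ⟨g32, List.forall_mem_cons.2 ⟨g34,
    List.forall_mem_cons.2 ⟨g35, List.forall_mem_cons.2 ⟨g36, List.forall_mem_cons.2 ⟨g37,
    List.forall_mem_cons.2 ⟨g38, List.forall_mem_cons.2 ⟨g39, List.forall_mem_cons.2 ⟨g40,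
    List.forall_mem_cons.2 ⟨g41, List.forall_mem_cons.2 ⟨g42, List.forall_mem_cons.2 ⟨g44,
    List.forall_mem_cons.2 ⟨g45, List.forall_mem_cons.2 ⟨g46, List.forall_mem_cons.2 ⟨g47,
    List.forall_mem_cons.2 ⟨g58, List.forall_mem_cons.2 ⟨g59, List.forall_mem_cons.2 ⟨gc243243,
    List.forall_mem_cons.2 ⟨gc197120, List.forall_mem_cons.2 ⟨gu2,
    List.forall_mem_nil _⟩⟩⟩⟩⟩⟩⟩⟩⟩⟩⟩⟩⟩⟩⟩⟩⟩⟩⟩⟩⟩⟩⟩⟩⟩⟩⟩⟩⟩⟩⟩⟩⟩⟩⟩⟩⟩⟩⟩⟩⟩) w248832 (by decide +kernel)

/-- irreducibility from the table -/
theorem tv_irr {v : List ℤ} (hv : GC fam v) (h0 : 0 < v.getD 1 0)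
    (h : ((List.range 37).map fun i => (SZ.getD i 0 : ℤ) * v.getD i 0 ^ 2).sum = (448345497600 : ℕ)) :
    IsIrrCharacter Suz (tv fam v) := by
  have := finite_Suz
  have := Fintype.ofFinite Suz
  refine GC.irrFam fam_lt SZ fam_card hv ?_ ?_
  · rw [h, card_Suz]
  · rw [fam_one]
    exact h0

theorem tv_one (v : List ℤ) : tv fam v 1 = ((v.getD 1 0 : ℤ) : ℂ) := by rw [tv, fam_one]

theorem tv_aut (v : List ℤ) (α : MulAut Suz) (g : Suz) : tv fam v (α g) = tv fam v g := by rw [tv, tv, fam_aut]

theorem irr1 : IsIrrCharacter Suz (tv fam v0) := tv_irr g0 (by decide +kernel) (by decide +kernel)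
theorem irr780 : IsIrrCharacter Suz (tv fam v1) := tv_irr g1 (by decide +kernel) (by decide +kernel)
theorem irr197120' : IsIrrCharacter Suz (tv fam w197120) := tv_irr gc197120 (by decide +kernel) (by decide +kernel)
theorem irr243243' : IsIrrCharacter Suz (tv fam w243243) := tv_irr gc243243 (by decide +kernel) (by decide +kernel)
theorem irr88452 : IsIrrCharacter Suz (tv fam w88452) := tv_irr gc88452 (by decide +kernel) (by decide +kernel)
theorem irr15795 : IsIrrCharacter Suz (tv fam w15795) := tv_irr gc15795 (by decide +kernel) (by decide +kernel)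
theorem irr248832 : IsIrrCharacter Suz (tv fam w248832) := tv_irr gc248832 (by decide +kernel) (by decide +kernel)

end Cfsg.Agent.TID.Suz
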