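import Cfsg.Agent.TID.Suz.Grp
import Cfsg.Agent.Blocks.Local
import Cfsg.Agent.KFacts.SuzOut

/-!
# S4622, row `Suz`: the two characters, and the position of the defect group (helper31)

* `chr9` : the characters of degree 15795 and 88452;
* `index_dvd`, `pos` : an almost simple group with socle `Suz`.
-/

set_option autoImplicit false
set_option maxRecDepth 100000

namespace Cfsg.Agent.TID.Suz

open Cfsg Cfsg.Spor Subgroup Cfsg.Agent.H300.Cls Cfsg.Agent.H714.S8.SuzFam Cfsg.Agent.H714.S8.Fam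
open Cfsg.Agent.SporadicRecognition.SuzOrder (card_Suz el)
open Cfsg.Agent.PreUniq.Spor.SuzP (E x1w cube_x1 x1E)
open Cfsg.Agent.KFacts.SuzLFour (e0 ne_one_of)
open Cfsg.Agent.KFacts.SuzTwoB (CE card_CE)
open Cfsg.Agent.CpAutSuz.ThreeC (card_centralizer)

universe u

theorem x1_ne : el x1w ≠ 1 := ne_one_of 0 (by decide +kernel)

theorem fam_x1 : fam (el x1w) = 6 := by
  have : Fact (Nat.Prime 3) := ⟨Nat.prime_three⟩
  exact fam_of_card (orderOf_eq_prime cube_x1 x1_ne) (card_centralizer x1E x1_ne)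

theorem fam_e0 : fam e0 = 31 := by
  have h1 := cent_mul e0
  rw [card_CE] at h1
  have h2 : ∀ i < 37, (161280 * SZ.getD i 0 = 448345497600 ∨ 161280 * SZ.getD i 0 = 2 * 448345497600) → i = 31 := by
    decide +kernel
  exact h2 _ (fam_lt _) h1

theorem index_CE : CE.index = 2779920 := by
  have := finite_Suz
  have h1 := CE.card_mul_index
  rw [card_CE, card_Suz] at h1
  omega

theorem not_principal {M : Ideal AlgInt} (hM : IsPModular 3 M) {v : List ℤ} (hv : IsIrrCharacter Suz (tv fam v)) {w : ℤ}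
    (h0 : v.getD 1 0 ≠ 0) (hw : 2779920 * v.getD 31 0 = w * v.getD 1 0) (h3 : ¬ (3 : ℤ) ∣ 2779920 - w) :
    (⟨_, hv⟩ : IrrCharacter Suz) ∉ principalBlock M Suz := by
  intro h
  have h1 : MemLocalIdeal M (centralChar (fun _ : Suz => (1 : ℂ)) e0 - centralChar (tv fam v) e0) := h e0
  have h2 : centralChar (fun _ : Suz => (1 : ℂ)) e0 - centralChar (tv fam v) e0 = ((2779920 - w : ℤ) : ℂ) := by
    have h4 : ((v.getD 1 0 : ℤ) : ℂ) ≠ 0 := Int.cast_ne_zero.2 h0
    have h5 : (2779920 : ℂ) * ((v.getD 31 0 : ℤ) : ℂ) = w * ((v.getD 1 0 : ℤ) : ℂ) := by exact_mod_cast hw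
    rw [centralChar, centralChar, index_CE, tv_one, tv, fam_e0, Nat.cast_ofNat, h5, mul_div_assoc, mul_div_assoc,
      div_self h4]
    push_cast
    ring
  rw [h2, Blocks.Local.memLocalIdeal_intCast_iff hM] at h1
  exact h3 h1

/-- **The two characters.** -/
theorem chr9 {M : Ideal AlgInt} (hM : IsPModular 3 M) : N9.Chr9 M E := by
  refine ⟨⟨_, irr15795⟩, ⟨_, irr88452⟩, el x1w, 1, 2, 15795, 88452, x1E, x1_ne,
    not_principal hM irr15795 (w := 9680) (by decide +kernel) (by decide +kernel) (by decide +kernel),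
    not_principal hM irr88452 (w := 1760) (by decide +kernel) (by decide +kernel) (by decide +kernel),
    by norm_num, by norm_num, ?_, ?_, ?_, ?_, fun f _ => ?_⟩
  · change tv fam w15795 _ = _
    rw [tv, fam_x1, show w15795.getD 6 0 = 9 from rfl]
    norm_num
  · change tv fam w88452 _ = _
    rw [tv, fam_x1, show w88452.getD 6 0 = 18 from rfl]
    norm_num
  · change tv fam w15795 _ = _
    rw [tv_one, show w15795.getD 1 0 = 15795 from rfl]
    norm_num
  · change tv fam w88452 _ = _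
    rw [tv_one, show w88452.getD 1 0 = 88452 from rfl]
    norm_num
  · push_cast
    omega

section pos

variable {X : Type u} [Group X] [Finite X] {S D : Subgroup X}

omit [Finite X] in
theorem index_dvd (hS : Soc S) (e : S ≃* Suz) : S.index ∣ 2 := by
  have := hS.normal
  let f : X →* MulAut Suz := (MulAut.congr e).toMonoidHom.comp MulAut.conjNormal
  have key : ∀ x, f x ∈ (MulAut.conj (G := Suz)).range → x ∈ S := by
    rintro x ⟨y, hy⟩
    have h1 : ((e.symm y : S) : X)⁻¹ * x ∈ Cz S := by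
      refine mem_Cz.2 fun s hs => ?_
      have h2 := congrArg (fun α : MulAut Suz => ((e.symm (α (e ⟨s, hs⟩)) : S) : X)) hy
      have h3 : ((e.symm y : S) : X) * s * ((e.symm y : S) : X)⁻¹ = x * s * x⁻¹ := by
        simpa [f, MulAut.congr] using h2
      calc s * (((e.symm y : S) : X)⁻¹ * x) =
          ((e.symm y : S) : X)⁻¹ * (((e.symm y : S) : X) * s * ((e.symm y : S) : X)⁻¹) * x := by group
        _ = _ := by rw [h3]; group
    rw [show Cz S = ⊥ from hS.cent, mem_bot, inv_mul_eq_one] at h1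
    rw [← h1]
    exact (e.symm y).2
  by_cases h : S = ⊤
  · rw [h, index_top]; exact one_dvd 2
  · obtain ⟨a, ha⟩ : ∃ a, a ∉ S := by
      by_contra hcon
      push Not at hcon
      exact h (eq_top_iff.2 fun x _ => hcon x)
    rw [index_eq_two_iff'.2 ⟨a, fun b => ?_⟩]
    by_cases hb : b ∈ S
    · exact Or.inr ⟨hb, fun h1 => ha ((mul_mem_cancel_right hb).1 h1)⟩
    · refine Or.inl ⟨?_, hb⟩
      rcases KFacts.SuzOut.out_two (f a⁻¹) (f b) with h1 | h1 | h1
      · exact absurd (inv_mem_iff.1 (key _ h1)) ha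
      · exact absurd (key _ h1) hb
      · rw [← map_inv, ← map_mul, inv_inv] at h1
        exact key _ h1

theorem le_of_index (hn : S.Normal) (hi : S.index ∣ 2) (hD : IsPGroup 3 D) : D ≤ S := by
  have : Fact (Nat.Prime 3) := ⟨Nat.prime_three⟩
  intro d hd
  obtain ⟨k, hk⟩ := pow_eq_one_of_mem hD hd
  have h1 : d ^ 2 ∈ S := by
    obtain ⟨c, hc⟩ := hi
    rw [hc, pow_mul]
    exact pow_mem (S.pow_index_mem d) c
  obtain ⟨m, hm⟩ : Odd (3 ^ k) := Odd.pow (by decide)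
  have h2 : d = ((d ^ 2) ^ m)⁻¹ := by
    rw [eq_inv_iff_mul_eq_one, ← pow_mul, ← pow_succ', ← hm, hk]
  rw [h2]
  exact inv_mem (pow_mem h1 m)

/-- the image in `Suz` -/
def imS (e : S ≃* Suz) (D : Subgroup X) : Subgroup Suz := (D.subgroupOf S).map e.toMonoidHom

omit [Finite X] in
theorem mem_imS {e : S ≃* Suz} {y : Suz} : y ∈ imS e D ↔ ((e.symm y : S) : X) ∈ D := by
  rw [imS, mem_map_equiv, mem_subgroupOf]

omit [Finite X] in
theorem mem_imS' {e : S ≃* Suz} {s : S} : e s ∈ imS e D ↔ (s : X) ∈ D := by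
  rw [mem_imS, e.symm_apply_apply]

omit [Finite X] in
theorem exists_cj_im (e : S ≃* Suz) (hDS : D ≤ S) (hD : IsPGroup 3 D) (hti : TI D) (hrk : Rk2 3 D)
    (hc : ¬ CenP 3 S D) : ∃ g : Suz, imS e D = cj g E := by
  have hinj : Function.Injective fun y : Suz => ((e.symm y : S) : X) :=
    S.subtype_injective.comp e.symm.injective
  refine exists_cj (hD.comap_subtype.map _) (ti_of_mem fun x g hx hx1 hg => ?_) ?_ fun h => hc ?_
  · rw [mem_imS] at hx hg
    rw [map_mul, map_mul, map_inv] at hg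
    have h1 := hti.mem hx (fun h => hx1 (hinj (by simpa using h))) hg
    refine le_Nz (H := zpowers g) ?_ (mem_zpowers g)
    intro c hc y hy
    have h2 : ((e.symm c : S) : X) ∈ Nz D := by
      obtain ⟨k, rfl⟩ := mem_zpowers_iff.1 hc
      rw [map_zpow, coe_zpow]
      exact zpow_mem h1 k
    rw [mem_imS] at hy ⊢
    rw [map_mul, map_mul, map_inv]
    exact conj_mem h2 hy
  · obtain ⟨V, h1, h2, h3⟩ := hrk
    refine ⟨imS e V, fun y hy => mem_imS.2 (h1 (mem_imS.1 hy)), ⟨⟨⟨fun a b => Subtype.ext (hinj ?_)⟩⟩, fun a ha => hinj ?_⟩,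
      ?_⟩
    · have := el_comm h2 (mem_imS.1 a.2) (mem_imS.1 b.2)
      simpa using this
    · have := h2.2 _ (mem_imS.1 ha)
      simpa using this
    · rw [imS, card_map_of_injective e.injective, Nat.card_congr (subgroupOfEquivOfLe (h1.trans hDS)).toEquiv, h3]
  · rintro ⟨y, hy1, hy2⟩
    have h1 : e ⟨y, hy1⟩ ∈ Cz (imS e D) := by
      refine mem_Cz.2 fun a ha => hinj ?_
      have := mem_Cz.1 hy2 _ (mem_imS.1 ha)
      simpa using this
    obtain ⟨k, hk⟩ := h ⟨_, h1⟩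
    refine ⟨k, Subtype.ext ?_⟩
    have h2 : e ⟨y, hy1⟩ ^ 3 ^ k = 1 := congrArg Subtype.val hk
    rw [← map_pow, map_eq_one_iff e e.injective] at h2
    exact congrArg (fun s : S => (s : X)) h2

/-- **The position of `D`.** -/
theorem pos (h : AS 3 S D) (hc : ¬ CenP 3 S D) (hS : Nonempty (S ≃* Suz)) :
    S.index ∣ 2 ∧ D ≤ S ∧ (∀ g : X, ∃ s ∈ S, s * g ∈ Nz D) ∧ ∃ e : S ≃* Suz, imS e D = E := by
  obtain ⟨e⟩ := hS
  have hn := h.soc.normal
  have hi := index_dvd h.soc e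
  have hDS := le_of_index hn hi h.loc.pgrp
  obtain ⟨a, ha⟩ := exists_cj_im e hDS h.loc.pgrp h.loc.ti h.loc.rk hc
  refine ⟨hi, hDS, fun g => ?_, e.trans (MulAut.conj a⁻¹), ?_⟩
  · have h1 : cj g D ≤ S := by
      rintro _ ⟨d, hd, rfl⟩
      exact hn.conj_mem d (hDS hd) g
    have h2 : ¬ CenP 3 S (cj g D) := by
      intro h3
      apply hc
      rintro ⟨y, hy1, hy2⟩
      have h4 : g * y * g⁻¹ ∈ S ⊓ Cz (cj g D) := by
        refine ⟨hn.conj_mem y hy1 g, mem_Cz.2 ?_⟩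
        rintro _ ⟨d, hd, rfl⟩
        change g * d * g⁻¹ * (g * y * g⁻¹) = g * y * g⁻¹ * (g * d * g⁻¹)
        calc g * d * g⁻¹ * (g * y * g⁻¹) = g * (d * y) * g⁻¹ := by group
          _ = g * (y * d) * g⁻¹ := by rw [mem_Cz.1 hy2 d hd]
          _ = _ := by group
      obtain ⟨k, hk⟩ := h3 ⟨_, h4⟩
      refine ⟨k, Subtype.ext ?_⟩
      have h5 : (g * y * g⁻¹) ^ 3 ^ k = 1 := congrArg Subtype.val hk
      rw [conj_pow, conj_eq_one_iff] at h5
      exact h5
    obtain ⟨b, hb⟩ := exists_cj_im e h1 (h.loc.pgrp.map _) (h.loc.ti.cj g) (h.loc.rk.map (MulAut.conj g).injective) h2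
    have h3 : imS e D = cj (a * b⁻¹) (imS e (cj g D)) := by
      rw [hb, cj_cj, inv_mul_cancel_right, ha]
    refine ⟨e.symm (a * b⁻¹), (e.symm (a * b⁻¹)).2, ?_⟩
    have h4 : cj (((e.symm (a * b⁻¹) : S) : X) * g) D ≤ D := by
      rintro _ ⟨d, hd, rfl⟩
      have h5 : e ⟨g * d * g⁻¹, h1 ⟨d, hd, rfl⟩⟩ ∈ imS e (cj g D) := mem_imS'.2 ⟨d, hd, rfl⟩
      have h6 : a * b⁻¹ * e ⟨g * d * g⁻¹, h1 ⟨d, hd, rfl⟩⟩ * (a * b⁻¹)⁻¹ ∈ imS e D := by
        rw [h3]
        exact ⟨_, h5, rfl⟩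
      rw [mem_imS, map_mul, map_mul, map_inv, e.symm_apply_apply] at h6
      change ((e.symm (a * b⁻¹) : S) : X) * g * d * (((e.symm (a * b⁻¹) : S) : X) * g)⁻¹ ∈ D
      have h7 : ((e.symm (a * b⁻¹) : S) : X) * g * d * (((e.symm (a * b⁻¹) : S) : X) * g)⁻¹ =
          ((e.symm (a * b⁻¹) : S) : X) * (g * d * g⁻¹) * ((e.symm (a * b⁻¹) : S) : X)⁻¹ := by group
      rw [h7]
      exact h6
    have h5 := eq_of_le_of_card_ge h4 (by rw [card_cj])
    rw [mem_normalizer_iff]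
    intro x
    refine ⟨fun hx => h4 ⟨x, hx, rfl⟩, fun hx => ?_⟩
    rw [← h5, mem_cj] at hx
    simpa [mul_assoc] using hx
  · ext y
    rw [mem_imS, ← mem_imS', ha, mem_cj]
    simp [mul_assoc]

end pos

end Cfsg.Agent.TID.Suz
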