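import Cfsg.Agent.TID.Suz.Main
import Cfsg.Agent.TID.N9.Main

/-!
# S4622, row `Suz`, unconditional (helper31)
-/

set_option autoImplicit false

namespace Cfsg.Agent.TID.Suz

universe u

/-- **The row `Suz`.** -/
theorem nsuz : NSuz.{u} := nsuz_of N9.nine

end Cfsg.Agent.TID.Suz
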